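import Mathlib
import Groth.Prelude.Def_GrLC

/-! Graded modules: components, sub, quotient, and the cofree graded module of a module. -/

set_option autoImplicit false

universe u

open DirectSum

namespace Groth.Agent.GrInj

variable {ι : Type} [AddCommGroup ι] [DecidableEq ι]
variable {R : Type u} [CommRing R] {𝒜 : ι → AddSubgroup R} [GradedRing 𝒜]

section Comp

variable {M : Type u} [AddCommGroup M] (ℳ : ι → AddSubgroup M) [Decomposition ℳ]

/-- The homogeneous component. -/
def proj (g : ι) : M →+ M where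
  toFun x := (decompose ℳ x g : M)
  map_zero' := by simp
  map_add' x y := by simp

theorem proj_mem (g : ι) (x : M) : proj ℳ g x ∈ ℳ g := (decompose ℳ x g).2

theorem proj_of_mem {g : ι} {x : M} (hx : x ∈ ℳ g) : proj ℳ g x = x := decompose_of_mem_same ℳ hx

theorem proj_of_mem_ne {g h : ι} {x : M} (hx : x ∈ ℳ g) (hne : g ≠ h) : proj ℳ h x = 0 :=
  decompose_of_mem_ne ℳ hx hne

theorem eq_zero_of_proj {x : M} (h : ∀ g, proj ℳ g x = 0) : x = 0 := by
  refine (decompose ℳ).injective ?_
  rw [decompose_zero]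
  exact DFinsupp.ext fun g => Subtype.ext (h g)

theorem exists_proj_ne_zero {x : M} (hx : x ≠ 0) : ∃ g, proj ℳ g x ≠ 0 :=
  not_forall.mp fun h => hx (eq_zero_of_proj ℳ h)

theorem mem_of_proj {S : Type*} [SetLike S M] [AddSubmonoidClass S M] (P : S) {x : M}
    (h : ∀ g, proj ℳ g x ∈ P) : x ∈ P := by
  classical
  rw [← sum_support_decompose ℳ x]
  exact sum_mem fun g _ => h g

theorem mem_iSup (x : M) : x ∈ ⨆ g, ℳ g :=
  mem_of_proj ℳ (⨆ g, ℳ g) fun g => AddSubgroup.mem_iSup_of_mem g (proj_mem ℳ g x)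

end Comp

section Module

variable {M : Type u} [AddCommGroup M] [Module R M] {ℳ : ι → AddSubgroup M} [Decomposition ℳ]
variable {N : Type u} [AddCommGroup N] [Module R N] {𝒩 : ι → AddSubgroup N} [Decomposition 𝒩]

theorem proj_map {f : M →ₗ[R] N} (hf : GrLC.IsGrHom ℳ 𝒩 f) (g : ι) (x : M) :
    proj 𝒩 g (f x) = f (proj ℳ g x) := by
  induction x using Decomposition.inductionOn ℳ with
  | zero => simp
  | @homogeneous k m =>
    by_cases h : k = g
    · subst h; rw [proj_of_mem ℳ m.2, proj_of_mem 𝒩 (hf k m m.2)]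
    · rw [proj_of_mem_ne ℳ m.2 h, proj_of_mem_ne 𝒩 (hf k m m.2) h, map_zero]
  | add a b ha hb => simp only [map_add, ha, hb]

theorem proj_smul [SetLike.GradedSMul 𝒜 ℳ] {h : ι} {r : R} (hr : r ∈ 𝒜 h) (g : ι) (x : M) :
    proj ℳ (h + g) (r • x) = r • proj ℳ g x := by
  induction x using Decomposition.inductionOn ℳ with
  | zero => simp
  | @homogeneous k m =>
    have hm : r • (m : M) ∈ ℳ (h + k) := SetLike.GradedSMul.smul_mem hr m.2
    by_cases hk : k = g
    · subst hk; rw [proj_of_mem ℳ m.2, proj_of_mem ℳ hm]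
    · rw [proj_of_mem_ne ℳ m.2 hk, proj_of_mem_ne ℳ hm (fun e => hk (add_left_cancel e)), smul_zero]
  | add a b ha hb => simp only [map_add, smul_add, ha, hb]

theorem proj_smul_mem [SetLike.GradedSMul 𝒜 ℳ] {k : ι} {m : M} (hm : m ∈ ℳ k) (g : ι) (r : R) :
    proj ℳ g (r • m) = proj 𝒜 (g - k) r • m := by
  induction r using Decomposition.inductionOn 𝒜 with
  | zero => simp
  | @homogeneous h a =>
    have hm' : (a : R) • m ∈ ℳ (h + k) := SetLike.GradedSMul.smul_mem a.2 hm
    by_cases hk : h + k = g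
    · subst hk
      rw [proj_of_mem ℳ hm', add_sub_cancel_right, proj_of_mem 𝒜 a.2]
    · rw [proj_of_mem_ne ℳ hm' hk, proj_of_mem_ne 𝒜 a.2 (fun e => hk (by rw [e, sub_add_cancel])), zero_smul]
  | add a b ha hb => simp only [add_smul, map_add, ha, hb]

theorem grHom_comp {P : Type u} [AddCommGroup P] [Module R P] {𝒬 : ι → AddSubgroup P} {f : M →ₗ[R] N} {g : N →ₗ[R] P}
    (hf : GrLC.IsGrHom ℳ 𝒩 f) (hg : GrLC.IsGrHom 𝒩 𝒬 g) : GrLC.IsGrHom ℳ 𝒬 (g ∘ₗ f) :=
  fun k m hm => hg k _ (hf k m hm)

theorem isHomogeneous_iff {P : Submodule R M} : P.IsHomogeneous ℳ ↔ ∀ g, ∀ x ∈ P, proj ℳ g x ∈ P :=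
  ⟨fun h g x hx => h g hx, fun h g _ hx => h g _ hx⟩

theorem isHomogeneous_ker {f : M →ₗ[R] N} (hf : GrLC.IsGrHom ℳ 𝒩 f) : (LinearMap.ker f).IsHomogeneous ℳ :=
  isHomogeneous_iff.mpr fun g x hx => by
    rw [LinearMap.mem_ker] at hx ⊢
    rw [← proj_map hf, hx, map_zero]

theorem isHomogeneous_map {f : M →ₗ[R] N} (hf : GrLC.IsGrHom ℳ 𝒩 f) {P : Submodule R M} (hP : P.IsHomogeneous ℳ) :
    (P.map f).IsHomogeneous 𝒩 :=
  isHomogeneous_iff.mpr fun g y ⟨x, hx, hxy⟩ =>
    ⟨proj ℳ g x, isHomogeneous_iff.mp hP g x hx, by rw [← hxy, proj_map hf]⟩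

theorem isHomogeneous_comap {f : M →ₗ[R] N} (hf : GrLC.IsGrHom ℳ 𝒩 f) {P : Submodule R N} (hP : P.IsHomogeneous 𝒩) :
    (P.comap f).IsHomogeneous ℳ :=
  isHomogeneous_iff.mpr fun g x hx => by
    rw [Submodule.mem_comap] at hx ⊢
    rw [← proj_map hf]; exact isHomogeneous_iff.mp hP g _ hx

theorem isHomogeneous_range {f : M →ₗ[R] N} (hf : GrLC.IsGrHom ℳ 𝒩 f) : (LinearMap.range f).IsHomogeneous 𝒩 := by
  rw [LinearMap.range_eq_map]
  exact isHomogeneous_map hf fun _ _ _ => trivial

theorem isHomogeneous_inf {P Q : Submodule R M} (hP : P.IsHomogeneous ℳ) (hQ : Q.IsHomogeneous ℳ) :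
    (P ⊓ Q).IsHomogeneous ℳ := fun g _ hx => ⟨hP g hx.1, hQ g hx.2⟩

theorem isHomogeneous_sup {P Q : Submodule R M} (hP : P.IsHomogeneous ℳ) (hQ : Q.IsHomogeneous ℳ) :
    (P ⊔ Q).IsHomogeneous ℳ := isHomogeneous_iff.mpr fun g x hx => by
  obtain ⟨p, hp, q, hq, rfl⟩ := Submodule.mem_sup.mp hx
  rw [map_add]
  exact Submodule.add_mem_sup (isHomogeneous_iff.mp hP g p hp) (isHomogeneous_iff.mp hQ g q hq)

theorem isHomogeneous_span_singleton [SetLike.GradedSMul 𝒜 ℳ] {k : ι} {m : M} (hm : m ∈ ℳ k) :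
    (Submodule.span R {m}).IsHomogeneous ℳ := isHomogeneous_iff.mpr fun g x hx => by
  obtain ⟨r, rfl⟩ := Submodule.mem_span_singleton.mp hx
  rw [proj_smul_mem (𝒜 := 𝒜) hm]
  exact Submodule.smul_mem _ _ (Submodule.mem_span_singleton_self m)

end Module

/-! ### Constructions -/

/-- A decomposition from a family of projections. -/
noncomputable abbrev mkDecomposition {M : Type u} [AddCommGroup M] (P : ι → AddSubgroup M) (π : ι → M →+ M)
    (h1 : ∀ g, ∀ x ∈ P g, π g x = x) (h2 : ∀ g h, g ≠ h → ∀ x ∈ P g, π h x = 0)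
    (hsum : ∀ x, x ∈ ⨆ g, P g) : Decomposition P :=
  IsInternal.chooseDecomposition P <| by
    constructor
    · refine (injective_iff_map_eq_zero _).mpr fun x hx => DFinsupp.ext fun g => Subtype.ext ?_
      have key : ∀ y : ⨁ g, P g, π g (DirectSum.coeAddMonoidHom P y) = y g := by
        intro y
        induction y using DirectSum.induction_on with
        | zero => simp
        | of k m =>
          rw [DirectSum.coeAddMonoidHom_of]
          by_cases hk : k = g
          · subst hk; rw [h1 k _ m.2, DirectSum.of_eq_same]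
          · rw [h2 k g hk _ m.2, DirectSum.of_eq_of_ne _ _ _ (Ne.symm hk)]; rfl
        | add a b ha hb =>
          simp only [map_add, ha, hb, DirectSum.add_apply, AddSubgroup.coe_add]
      have := key x
      rw [hx, map_zero] at this
      exact this.symm
    · intro x
      exact AddSubgroup.iSup_induction P (C := fun x => ∃ y, DirectSum.coeAddMonoidHom P y = x) (hsum x)
        (fun g m hm => ⟨DirectSum.of _ g ⟨m, hm⟩, DirectSum.coeAddMonoidHom_of _ _ _⟩) ⟨0, map_zero _⟩
        (fun a b ⟨y, hy⟩ ⟨z, hz⟩ => ⟨y + z, by rw [map_add, hy, hz]⟩)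

section Sub

variable {M : Type u} [AddCommGroup M] [Module R M] (ℳ : ι → AddSubgroup M) [Decomposition ℳ]
  [SetLike.GradedSMul 𝒜 ℳ] (P : Submodule R M) (hP : P.IsHomogeneous ℳ)

/-- The graded module structure on a homogeneous submodule. -/
noncomputable def subGMod : GrLC.GMod.{u} 𝒜 :=
  letI : Decomposition (fun g => (ℳ g).comap P.subtype.toAddMonoidHom) :=
    mkDecomposition _
      (fun g => ((proj ℳ g).comp P.subtype.toAddMonoidHom).codRestrict P fun x => isHomogeneous_iff.mp hP g _ x.2)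
      (fun _ x hx => Subtype.ext (proj_of_mem ℳ hx)) (fun _ _ hne x hx => Subtype.ext (proj_of_mem_ne ℳ hx hne))
      (fun x => by
        classical
        have : x = ∑ g ∈ (decompose ℳ (x : M)).support, (⟨proj ℳ g x, isHomogeneous_iff.mp hP g _ x.2⟩ : P) :=
          Subtype.ext (by rw [AddSubmonoidClass.coe_finsetSum]; exact (sum_support_decompose ℳ (x : M)).symm)
        rw [this]
        exact sum_mem fun g _ => AddSubgroup.mem_iSup_of_mem g (proj_mem ℳ g (x : M)))
  haveI : SetLike.GradedSMul 𝒜 (fun g => (ℳ g).comap P.subtype.toAddMonoidHom) :=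
    ⟨fun _ _ r x hr hx => (SetLike.GradedSMul.smul_mem (B := ℳ) hr hx :)⟩
  GrLC.GMod.of 𝒜 P (fun g => (ℳ g).comap P.subtype.toAddMonoidHom)

/-- The graded module structure on the quotient by a homogeneous submodule. -/
noncomputable def quotGMod : GrLC.GMod.{u} 𝒜 :=
  letI : Decomposition (fun g => (ℳ g).map P.mkQ.toAddMonoidHom) :=
    mkDecomposition _
      (fun g => QuotientAddGroup.lift P.toAddSubgroup (P.mkQ.toAddMonoidHom.comp (proj ℳ g)) fun x hx =>
        (Submodule.Quotient.mk_eq_zero P).mpr (isHomogeneous_iff.mp hP g x hx))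
      (by rintro g _ ⟨m, hm, rfl⟩; exact congrArg P.mkQ (proj_of_mem ℳ hm))
      (by rintro g h hne _ ⟨m, hm, rfl⟩; exact (congrArg P.mkQ (proj_of_mem_ne ℳ hm hne)).trans (map_zero _))
      (fun x => by
        obtain ⟨y, rfl⟩ := P.mkQ_surjective x
        rw [← AddSubgroup.map_iSup]
        exact ⟨y, mem_iSup ℳ y, rfl⟩)
  haveI : SetLike.GradedSMul 𝒜 (fun g => (ℳ g).map P.mkQ.toAddMonoidHom) :=
    ⟨fun _ _ r x hr => by rintro ⟨m, hm, rfl⟩; exact ⟨r • m, SetLike.GradedSMul.smul_mem hr hm, P.mkQ.map_smul r m⟩⟩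
  GrLC.GMod.of 𝒜 (M ⧸ P) (fun g => (ℳ g).map P.mkQ.toAddMonoidHom)

variable (𝒜)

/-- The shifted graded module. -/
noncomputable def shiftGMod (d : ι) : GrLC.GMod.{u} 𝒜 :=
  letI : Decomposition (fun g => ℳ (g - d)) :=
    mkDecomposition _ (fun g => proj ℳ (g - d)) (fun _ x hx => proj_of_mem ℳ hx)
      (fun _ _ hne x hx => proj_of_mem_ne ℳ hx fun e => hne (sub_left_injective e))
      (fun x => by
        classical
        rw [← sum_support_decompose ℳ x]
        refine sum_mem fun g _ => AddSubgroup.mem_iSup_of_mem (g + d) ?_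
        show _ ∈ ℳ (g + d - d)
        rw [add_sub_cancel_right]
        exact proj_mem ℳ g x)
  haveI : SetLike.GradedSMul 𝒜 (fun g => ℳ (g - d)) :=
    ⟨fun i j r x hr hx => by
      show r • x ∈ ℳ (i + j - d)
      rw [add_sub_assoc]; exact SetLike.GradedSMul.smul_mem hr hx⟩
  GrLC.GMod.of 𝒜 M (fun g => ℳ (g - d))

end Sub

/-! ### The cofree graded module -/

section Cofree

variable (ι R) in
/-- The cofree graded module on an `R`-module. -/
def Gr (_𝒜 : ι → AddSubgroup R) (N : Type u) [AddCommGroup N] : Type u := ι →₀ N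

variable (N : Type u) [AddCommGroup N]

noncomputable instance : AddCommGroup (Gr ι R 𝒜 N) := inferInstanceAs (AddCommGroup (ι →₀ N))

variable [Module R N]

/-- The translate-and-multiply map. -/
noncomputable def transl (h : ι) (r : R) : (ι →₀ N) →+ (ι →₀ N) :=
  Finsupp.liftAddHom fun k => (Finsupp.singleAddHom (h + k)).comp (DistribSMul.toAddMonoidHom N r)

theorem transl_single (h k : ι) (r : R) (x : N) :
    transl N h r (Finsupp.single k x) = Finsupp.single (h + k) (r • x) :=
  Finsupp.liftAddHom_apply_single _ _ _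

/-- The action of a homogeneous element. -/
noncomputable def actHom (h : ι) : 𝒜 h →+ AddMonoid.End (ι →₀ N) :=
  AddMonoidHom.mk' (fun a => transl N h (a : R)) fun a b => Finsupp.addHom_ext fun k x => by
    refine (transl_single N h k _ x).trans ?_
    show _ = transl N h (a : R) (Finsupp.single k x) + transl N h (b : R) (Finsupp.single k x)
    rw [transl_single, transl_single, ← Finsupp.single_add, ← add_smul]
    rfl

/-- The action of the ring. -/
noncomputable def act : R →+* AddMonoid.End (ι →₀ N) :=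
  (DirectSum.toSemiring (fun h => actHom (𝒜 := 𝒜) N h)
    (Finsupp.addHom_ext fun k x => by
      refine (transl_single N 0 k (1 : R) x).trans ?_
      rw [zero_add, one_smul]; rfl)
    (fun {i j} a b => Finsupp.addHom_ext fun k x => by
      refine (transl_single N (i + j) k ((a : R) * b) x).trans ?_
      show _ = transl N i (a : R) (transl N j (b : R) (Finsupp.single k x))
      rw [transl_single, transl_single, add_assoc, mul_smul])).comp
    (DirectSum.decomposeRingEquiv 𝒜).toRingHom

noncomputable instance : Module R (Gr ι R 𝒜 N) :=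
  Module.compHom (ι →₀ N) (act (𝒜 := 𝒜) N)

variable (𝒜) in
/-- The element `n` in degree `g`. -/
noncomputable def single (g : ι) : N →+ Gr ι R 𝒜 N := Finsupp.singleAddHom g

theorem smul_single {h : ι} {r : R} (hr : r ∈ 𝒜 h) (g : ι) (n : N) :
    r • single 𝒜 N g n = single 𝒜 N (h + g) (r • n) := by
  show act (𝒜 := 𝒜) N r (Finsupp.single g n) = Finsupp.single (h + g) (r • n)
  have : (DirectSum.decomposeRingEquiv 𝒜) r = DirectSum.of (fun i => 𝒜 i) h ⟨r, hr⟩ := decompose_of_mem 𝒜 hr
  rw [act, RingHom.comp_apply]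
  erw [this, DirectSum.toSemiring_of]
  exact transl_single N h g r n

variable (𝒜) in
/-- The pieces. -/
noncomputable def grPiece (g : ι) : AddSubgroup (Gr ι R 𝒜 N) := (single 𝒜 N g).range

noncomputable instance : Decomposition (grPiece 𝒜 N) :=
  mkDecomposition _
    (fun g => (single 𝒜 N g).comp (Finsupp.applyAddHom (M := N) g))
    (by rintro g _ ⟨n, rfl⟩; exact congrArg (Finsupp.single g) Finsupp.single_eq_same)
    (by rintro g h hne _ ⟨n, rfl⟩
        exact (congrArg (Finsupp.single h) (Finsupp.single_eq_of_ne hne.symm)).trans (Finsupp.single_zero h))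
    (fun x => by
      induction x using Finsupp.induction_linear with
      | zero => exact zero_mem _
      | add a b ha hb => exact add_mem ha hb
      | single g n => exact AddSubgroup.mem_iSup_of_mem g ⟨n, rfl⟩)

instance : SetLike.GradedSMul 𝒜 (grPiece 𝒜 N) :=
  ⟨fun _ _ r x hr => by rintro ⟨n, rfl⟩; exact ⟨r • n, (smul_single N hr _ n).symm⟩⟩

/-- Forgetting the degrees, additively. -/
noncomputable def totalAdd : Gr ι R 𝒜 N →+ N := Finsupp.liftAddHom (fun _ => AddMonoidHom.id N)

theorem totalAdd_single (g : ι) (n : N) : totalAdd N (single 𝒜 N g n) = n := Finsupp.liftAddHom_apply_single _ _ _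

theorem Gr.induction {motive : Gr ι R 𝒜 N → Prop} (zero : motive 0) (add : ∀ a b, motive a → motive b → motive (a + b))
    (single : ∀ g n, motive (single 𝒜 N g n)) (x : Gr ι R 𝒜 N) : motive x :=
  Finsupp.induction_linear (motive := motive) x zero add single

/-- Forgetting the degrees. -/
noncomputable def total : Gr ι R 𝒜 N →ₗ[R] N where
  toFun := totalAdd N
  map_add' := map_add _
  map_smul' r x := by
    rw [RingHom.id_apply]
    induction r using Decomposition.inductionOn 𝒜 with
    | zero => rw [zero_smul, zero_smul, map_zero]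
    | add a b ha hb => rw [add_smul, add_smul, map_add, ha, hb]
    | @homogeneous h a =>
      induction x using Gr.induction with
      | zero => rw [smul_zero, map_zero, smul_zero]
      | add p q hp hq => rw [smul_add, map_add, map_add, smul_add, hp, hq]
      | single g n => rw [smul_single N a.2, totalAdd_single, totalAdd_single]

theorem total_single (g : ι) (n : N) : total N (single 𝒜 N g n) = n := Finsupp.liftAddHom_apply_single _ _ _

variable {N} {A : Type u} [AddCommGroup A] [Module R A] (𝒜' : ι → AddSubgroup A) [Decomposition 𝒜']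
  [SetLike.GradedSMul 𝒜 𝒜']

/-- The homogeneous map into the cofree module. -/
noncomputable def lift (φ : A →ₗ[R] N) : A →ₗ[R] Gr ι R 𝒜 N where
  toFun a := DirectSum.toAddMonoid (fun g => ((single 𝒜 N g).comp φ.toAddMonoidHom).comp (𝒜' g).subtype) (decompose 𝒜' a)
  map_add' a b := by rw [decompose_add, map_add]
  map_smul' r a := by
    induction r using Decomposition.inductionOn 𝒜 with
    | zero => simp
    | add p q hp hq => simp only [add_smul, decompose_add, map_add, hp, hq, RingHom.id_apply]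
    | @homogeneous h p =>
      induction a using Decomposition.inductionOn 𝒜' with
      | zero => simp
      | add b c hb hc => simp only [smul_add, decompose_add, map_add, hb, hc, RingHom.id_apply]
      | @homogeneous g b =>
        have hm : (p : R) • (b : A) ∈ 𝒜' (h + g) := SetLike.GradedSMul.smul_mem p.2 b.2
        rw [decompose_coe, decompose_of_mem 𝒜' hm, DirectSum.toAddMonoid_of, DirectSum.toAddMonoid_of,
          RingHom.id_apply, AddMonoidHom.comp_apply, AddMonoidHom.comp_apply, AddMonoidHom.comp_apply,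
          AddMonoidHom.comp_apply, smul_single N p.2]
        exact congrArg (single 𝒜 N (h + g)) (map_smul φ (p : R) (b : A))

theorem lift_of_mem (φ : A →ₗ[R] N) {g : ι} {a : A} (ha : a ∈ 𝒜' g) :
    lift (𝒜 := 𝒜) 𝒜' φ a = single 𝒜 N g (φ a) := by
  show DirectSum.toAddMonoid _ (decompose 𝒜' a) = _
  rw [decompose_of_mem 𝒜' ha, DirectSum.toAddMonoid_of]
  rfl

theorem lift_grHom (φ : A →ₗ[R] N) : GrLC.IsGrHom 𝒜' (grPiece 𝒜 N) (lift (𝒜 := 𝒜) 𝒜' φ) :=
  fun g a ha => ⟨φ a, (lift_of_mem 𝒜' φ ha).symm⟩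

theorem lift_injective (φ : A →ₗ[R] N) (hφ : Function.Injective φ) : Function.Injective (lift (𝒜 := 𝒜) 𝒜' φ) := by
  refine (injective_iff_map_eq_zero _).mpr fun a ha => eq_zero_of_proj 𝒜' fun g => hφ ?_
  have h1 := proj_map (lift_grHom (𝒜 := 𝒜) 𝒜' φ) g a
  rw [ha, map_zero, lift_of_mem 𝒜' φ (proj_mem 𝒜' g a)] at h1
  rw [map_zero, ← total_single (𝒜 := 𝒜) N g (φ _), ← h1, map_zero]

theorem isStarInj_cofree (N : Type u) [AddCommGroup N] [Module R N] [Module.Injective R N] :
    GrLC.IsStarInj 𝒜 (grPiece 𝒜 N) := by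
  intro A B f hf hinj φ hφ
  obtain ⟨ψ, hψ⟩ := Module.Injective.extension_property R N A.carrier B.carrier f hinj (total N ∘ₗ φ)
  refine ⟨lift B.gr ψ, lift_grHom B.gr ψ, LinearMap.ext fun a => ?_⟩
  induction a using Decomposition.inductionOn A.gr with
  | zero => simp
  | add p q hp hq => simp only [map_add, hp, hq]
  | @homogeneous g m =>
    rw [LinearMap.comp_apply, lift_of_mem B.gr ψ (hf g m m.2)]
    obtain ⟨n, hn⟩ := hφ g m m.2
    rw [← LinearMap.comp_apply, hψ, LinearMap.comp_apply, ← hn, total_single]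

end Cofree

end Groth.Agent.GrInj
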