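import Mathlib
import Groth.Agent.GrInj.Basic
import Groth.Prelude.Def_Wider

/-! Graded essential extensions and graded injective hulls. -/

set_option autoImplicit false

universe u

open DirectSum

namespace Groth.Agent.GrInj

variable {ι : Type} [AddCommGroup ι] [DecidableEq ι]
variable {R : Type u} [CommRing R] {𝒜 : ι → AddSubgroup R} [GradedRing 𝒜]
variable {M : Type u} [AddCommGroup M] [Module R M] {ℳ : ι → AddSubgroup M}
variable {N : Type u} [AddCommGroup N] [Module R N] {𝒩 : ι → AddSubgroup N} [Decomposition 𝒩]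
  [SetLike.GradedSMul 𝒜 𝒩]

/-- `P` is essential in `Q` for homogeneous elements. -/
def Ess (𝒜 : ι → AddSubgroup R) (𝒩 : ι → AddSubgroup N) (P Q : Submodule R N) : Prop :=
  ∀ g, ∀ y ∈ 𝒩 g, y ∈ Q → y ≠ 0 → ∃ h, ∃ r ∈ 𝒜 h, r • y ∈ P ∧ r • y ≠ 0

theorem isHomogeneous_range_of_span (hℳ : ∀ m : M, m ∈ ⨆ g, ℳ g) {f : M →ₗ[R] N} (hf : GrLC.IsGrHom ℳ 𝒩 f) :
    (LinearMap.range f).IsHomogeneous 𝒩 := isHomogeneous_iff.mpr fun g y hy => by
  obtain ⟨m, rfl⟩ := hy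
  refine AddSubgroup.iSup_induction ℳ (C := fun m => proj 𝒩 g (f m) ∈ LinearMap.range f) (hℳ m)
    (fun k x hx => ?_) (by simp) (fun a b ha hb => by rw [map_add, map_add]; exact add_mem ha hb)
  by_cases h : k = g
  · subst h; rw [proj_of_mem 𝒩 (hf k x hx)]; exact ⟨x, rfl⟩
  · rw [proj_of_mem_ne 𝒩 (hf k x hx) h]; exact zero_mem _

theorem ess_of_isStarEss {f : M →ₗ[R] N} (hr : (LinearMap.range f).IsHomogeneous 𝒩) (hf : GrLC.IsStarEss ℳ 𝒩 f) :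
    Ess 𝒜 𝒩 (LinearMap.range f) ⊤ := fun g y hy _ hy0 => by
  obtain ⟨z, hz, hz0⟩ := Submodule.exists_mem_ne_zero_of_ne_bot
    (hf.essential (R ∙ y) (isHomogeneous_span_singleton (𝒜 := 𝒜) hy) (by simpa using hy0))
  obtain ⟨k, hk⟩ := exists_proj_ne_zero 𝒩 hz0
  obtain ⟨r, rfl⟩ := Submodule.mem_span_singleton.mp hz.1
  have h1 := proj_smul_mem (𝒜 := 𝒜) hy k r
  exact ⟨k - g, proj 𝒜 (k - g) r, proj_mem _ _ _, h1 ▸ isHomogeneous_iff.mp hr k _ hz.2, h1 ▸ hk⟩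

theorem isStarEss_of_ess {f : M →ₗ[R] N} (hinj : Function.Injective f) (hf : GrLC.IsGrHom ℳ 𝒩 f)
    (h : Ess 𝒜 𝒩 (LinearMap.range f) ⊤) : GrLC.IsStarEss ℳ 𝒩 f := by
  refine ⟨hinj, hf, fun P hP hP0 => ?_⟩
  obtain ⟨x, hx, hx0⟩ := Submodule.exists_mem_ne_zero_of_ne_bot hP0
  obtain ⟨g, hg⟩ := exists_proj_ne_zero 𝒩 hx0
  obtain ⟨k, r, -, hr, hr0⟩ := h g _ (proj_mem _ g x) trivial hg
  exact fun hbot => hr0 ((Submodule.eq_bot_iff _).mp hbot _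
    ⟨P.smul_mem r (isHomogeneous_iff.mp hP g x hx), hr⟩)

/-- Graded essential extensions are essential. -/
theorem isEssentialInj_of_ess {f : M →ₗ[R] N} (hinj : Function.Injective f)
    (hr : (LinearMap.range f).IsHomogeneous 𝒩) (h : Ess 𝒜 𝒩 (LinearMap.range f) ⊤) : InjHull.IsEssentialInj f := by
  classical
  refine ⟨hinj, fun P hP => ?_⟩
  obtain ⟨x, hx, hx0⟩ := Submodule.exists_mem_ne_zero_of_ne_bot hP
  suffices key : ∀ (n : ℕ) (x : N), x ∈ P → x ≠ 0 →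
      ((decompose 𝒩 x).support.filter fun g => proj 𝒩 g x ∉ LinearMap.range f).card ≤ n →
      ∃ y ∈ P, y ∈ LinearMap.range f ∧ y ≠ 0 by
    obtain ⟨y, hy, hy', hy0⟩ := key _ x hx hx0 le_rfl
    exact fun hbot => hy0 ((Submodule.eq_bot_iff _).mp hbot _ ⟨hy, hy'⟩)
  intro n
  induction n with
  | zero =>
    intro x hx hx0 hc
    refine ⟨x, hx, mem_of_proj 𝒩 (LinearMap.range f) fun g => ?_, hx0⟩
    by_contra hg
    have : g ∈ (decompose 𝒩 x).support := DFinsupp.mem_support_iff.mpr fun e =>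
      hg (by rw [show proj 𝒩 g x = 0 from by show ((decompose 𝒩 x g : 𝒩 g) : N) = 0; rw [e]; rfl]; exact zero_mem _)
    have := Finset.card_eq_zero.mp (Nat.le_zero.mp hc)
    exact Finset.notMem_empty g (this ▸ Finset.mem_filter.mpr ⟨‹_›, hg⟩)
  | succ n ih =>
    intro x hx hx0 hc
    by_cases hall : ∀ g, proj 𝒩 g x ∈ LinearMap.range f
    · exact ⟨x, hx, mem_of_proj 𝒩 (LinearMap.range f) hall, hx0⟩
    obtain ⟨g, hg⟩ := not_forall.mp hall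
    obtain ⟨k, r, hrk, hrm, hr0⟩ := h g _ (proj_mem 𝒩 g x) trivial (fun e => hg (e ▸ zero_mem _))
    have hg' : g ∈ (decompose 𝒩 x).support := DFinsupp.mem_support_iff.mpr fun e =>
      hg (by rw [show proj 𝒩 g x = 0 from by show ((decompose 𝒩 x g : 𝒩 g) : N) = 0; rw [e]; rfl]; exact zero_mem _)
    have hy0 : r • x ≠ 0 := fun e => hr0 (by rw [← proj_smul (𝒜 := 𝒜) hrk g x, e, map_zero])
    refine ih _ (P.smul_mem r hx) hy0 (Nat.le_of_lt_succ (lt_of_lt_of_le ?_ hc))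
    let S := (decompose 𝒩 x).support.filter fun g => proj 𝒩 g x ∉ LinearMap.range f
    have hsub : ((decompose 𝒩 (r • x)).support.filter fun j => proj 𝒩 j (r • x) ∉ LinearMap.range f) ⊆
        (S.erase g).map (addLeftEmbedding k) := fun j hj => by
      obtain ⟨-, hj⟩ := Finset.mem_filter.mp hj
      have hjk : k + (j - k) = j := add_sub_cancel _ _
      rw [← hjk, proj_smul (𝒜 := 𝒜) hrk] at hj
      refine Finset.mem_map.mpr ⟨j - k, Finset.mem_erase.mpr ⟨fun e => hj (e ▸ hrm), Finset.mem_filter.mpr ⟨?_, ?_⟩⟩, hjk⟩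
      · refine DFinsupp.mem_support_iff.mpr fun e => hj ?_
        rw [show proj 𝒩 (j - k) x = 0 from by show ((decompose 𝒩 x _ : 𝒩 _) : N) = 0; rw [e]; rfl, smul_zero]
        exact zero_mem _
      · exact fun hin => hj (Submodule.smul_mem _ r hin)
    refine lt_of_le_of_lt (Finset.card_le_card hsub) ?_
    rw [Finset.card_map]
    exact Finset.card_erase_lt_of_mem (Finset.mem_filter.mpr ⟨hg', hg⟩)

/-- An injective homogeneous map out of a graded injective splits. -/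
theorem exists_retraction [Decomposition ℳ] [SetLike.GradedSMul 𝒜 ℳ] (hM : GrLC.IsStarInj 𝒜 ℳ)
    {f : M →ₗ[R] N} (hf : GrLC.IsGrHom ℳ 𝒩 f) (hinj : Function.Injective f) :
    ∃ s : N →ₗ[R] M, GrLC.IsGrHom 𝒩 ℳ s ∧ s ∘ₗ f = LinearMap.id ∧ IsCompl (LinearMap.range f) (LinearMap.ker s) := by
  obtain ⟨s, hs, hsf⟩ : ∃ s : N →ₗ[R] M, GrLC.IsGrHom 𝒩 ℳ s ∧ s ∘ₗ f = LinearMap.id :=
    hM (GrLC.GMod.of 𝒜 M ℳ) (GrLC.GMod.of 𝒜 N 𝒩) f hf hinj LinearMap.id fun _ _ hm => hm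
  have hsf' : ∀ m, s (f m) = m := fun m => LinearMap.congr_fun hsf m
  refine ⟨s, hs, hsf, ⟨disjoint_iff.mpr ((Submodule.eq_bot_iff _).mpr ?_), codisjoint_iff.mpr (eq_top_iff.mpr ?_)⟩⟩
  · rintro _ ⟨⟨m, rfl⟩, hm⟩
    rw [SetLike.mem_coe, LinearMap.mem_ker, hsf'] at hm
    rw [hm, map_zero]
  · intro x _
    exact Submodule.mem_sup.mpr ⟨f (s x), ⟨s x, rfl⟩, x - f (s x), by simp [hsf'], by abel⟩

theorem grHom_symm [Decomposition ℳ] {e : M ≃ₗ[R] N} (he : GrLC.IsGrHom ℳ 𝒩 e.toLinearMap) :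
    GrLC.IsGrHom 𝒩 ℳ e.symm.toLinearMap := fun g y hy => by
  have h1 := proj_map (ℳ := ℳ) he g (e.symm y)
  simp only [LinearEquiv.coe_coe, LinearEquiv.apply_symm_apply] at h1
  rw [proj_of_mem 𝒩 hy] at h1
  show e.symm y ∈ ℳ g
  rw [h1, e.symm_apply_apply]
  exact proj_mem ℳ g _

/-- A retract of a graded injective is graded injective. -/
theorem isStarInj_retract [Decomposition ℳ] [SetLike.GradedSMul 𝒜 ℳ] (hN : GrLC.IsStarInj 𝒜 𝒩) (i : M →ₗ[R] N)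
    (s : N →ₗ[R] M) (hi : GrLC.IsGrHom ℳ 𝒩 i) (hs : GrLC.IsGrHom 𝒩 ℳ s) (hsi : ∀ m, s (i m) = m) :
    GrLC.IsStarInj 𝒜 ℳ := fun A B f hf hinj φ hφ => by
  obtain ⟨h, hh, hhf⟩ := hN A B f hf hinj (i ∘ₗ φ) (grHom_comp hφ hi)
  refine ⟨s ∘ₗ h, grHom_comp hh hs, LinearMap.ext fun a => ?_⟩
  have := LinearMap.congr_fun hhf a
  simp only [LinearMap.comp_apply] at this ⊢
  rw [this, hsi]

/-- A graded injective contains a graded injective hull of each homogeneous submodule. -/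
theorem exists_hull_le (hN : GrLC.IsStarInj 𝒜 𝒩) (K : Submodule R N) (hK : K.IsHomogeneous 𝒩) :
    ∃ (P : Submodule R N) (hP : P.IsHomogeneous 𝒩), K ≤ P ∧ Ess 𝒜 𝒩 K P ∧
      GrLC.IsStarInj 𝒜 (subGMod (𝒜 := 𝒜) 𝒩 P hP).gr := by
  let S : Set (Submodule R N) := {P | P.IsHomogeneous 𝒩 ∧ K ≤ P ∧ Ess 𝒜 𝒩 K P}
  have hS : ∀ c ⊆ S, IsChain (· ≤ ·) c → ∀ y ∈ c, ∃ ub ∈ S, ∀ z ∈ c, z ≤ ub := fun c hc hch y hy => by
    have hmem : ∀ {x}, x ∈ sSup c ↔ ∃ P ∈ c, x ∈ P := fun {x} =>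
      Submodule.mem_sSup_of_directed ⟨y, hy⟩ hch.directedOn
    refine ⟨sSup c, ⟨isHomogeneous_iff.mpr fun g x hx => ?_, (hc hy).2.1.trans (le_sSup hy), fun g x hx hxc => ?_⟩,
      fun z hz => le_sSup hz⟩
    · obtain ⟨P, hP, hxP⟩ := hmem.mp hx
      exact hmem.mpr ⟨P, hP, isHomogeneous_iff.mp (hc hP).1 g x hxP⟩
    · obtain ⟨P, hP, hxP⟩ := hmem.mp hxc
      exact (hc hP).2.2 g x hx hxP
  obtain ⟨P, hKP, hP⟩ := zorn_le_nonempty₀ S hS K ⟨hK, le_rfl, fun g y hy hyK hy0 =>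
    ⟨0, 1, SetLike.one_mem_graded 𝒜, by rwa [one_smul], by rwa [one_smul]⟩⟩
  obtain ⟨⟨hPh, -, hPe⟩, hmax⟩ := hP
  let T : Set (Submodule R N) := {Q | Q.IsHomogeneous 𝒩 ∧ Q ⊓ P = ⊥}
  have hT : ∀ c ⊆ T, IsChain (· ≤ ·) c → ∀ y ∈ c, ∃ ub ∈ T, ∀ z ∈ c, z ≤ ub := fun c hc hch y hy => by
    have hmem : ∀ {x}, x ∈ sSup c ↔ ∃ P ∈ c, x ∈ P := fun {x} =>
      Submodule.mem_sSup_of_directed ⟨y, hy⟩ hch.directedOn
    refine ⟨sSup c, ⟨isHomogeneous_iff.mpr fun g x hx => ?_, (Submodule.eq_bot_iff _).mpr fun x hx => ?_⟩,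
      fun z hz => le_sSup hz⟩
    · obtain ⟨Q, hQ, hxQ⟩ := hmem.mp hx
      exact hmem.mpr ⟨Q, hQ, isHomogeneous_iff.mp (hc hQ).1 g x hxQ⟩
    · obtain ⟨Q, hQ, hxQ⟩ := hmem.mp hx.1
      exact (Submodule.eq_bot_iff _).mp (hc hQ).2 x ⟨hxQ, hx.2⟩
  obtain ⟨Q, -, hQ⟩ := zorn_le_nonempty₀ T hT ⊥
    ⟨isHomogeneous_iff.mpr fun g x hx => by rw [(Submodule.mem_bot R).mp hx, map_zero]; exact zero_mem _, bot_inf_eq _⟩
  obtain ⟨⟨hQh, hQP⟩, hQmax⟩ := hQ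
  let P' := subGMod (𝒜 := 𝒜) 𝒩 P hPh
  let N' := quotGMod (𝒜 := 𝒜) 𝒩 Q hQh
  let j : P'.carrier →ₗ[R] N'.carrier := Q.mkQ ∘ₗ P.subtype
  have hjgr : GrLC.IsGrHom P'.gr N'.gr j := fun g x hx => ⟨(x : P).1, hx, rfl⟩
  have hjinj : Function.Injective j := (injective_iff_map_eq_zero j).mpr fun x hx => Subtype.ext
    ((Submodule.eq_bot_iff _).mp hQP _ ⟨(Submodule.Quotient.mk_eq_zero Q).mp hx, (x : P).2⟩)
  obtain ⟨h, hh, hhj⟩ := hN P' N' j hjgr hjinj P.subtype fun _ _ hx => hx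
  have hhP : ∀ p : P, h (Q.mkQ p.1) = p.1 := fun p => LinearMap.congr_fun hhj p
  have hessN : ∀ g, ∀ n ∈ 𝒩 g, n ∉ Q → ∃ h', ∃ r ∈ 𝒜 h', ∃ p ∈ P, p ≠ 0 ∧ r • n - p ∈ Q := by
    intro g n hn hnQ
    have hbig : ¬ Q ⊔ R ∙ n ≤ Q := fun hle => hnQ (hle (Submodule.mem_sup_right (Submodule.mem_span_singleton_self n)))
    have : ¬ (Q ⊔ R ∙ n) ⊓ P = ⊥ := fun e => hbig
      (hQmax ⟨isHomogeneous_sup hQh (isHomogeneous_span_singleton (𝒜 := 𝒜) hn), e⟩ le_sup_left)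
    obtain ⟨z, hz, hz0⟩ := Submodule.exists_mem_ne_zero_of_ne_bot this
    obtain ⟨q, hq, w, hw, rfl⟩ := Submodule.mem_sup.mp hz.1
    obtain ⟨r, rfl⟩ := Submodule.mem_span_singleton.mp hw
    obtain ⟨k, hk⟩ := exists_proj_ne_zero 𝒩 hz0
    refine ⟨k - g, proj 𝒜 (k - g) r, proj_mem _ _ _, _, isHomogeneous_iff.mp hPh k _ hz.2, hk, ?_⟩
    rw [← proj_smul_mem (𝒜 := 𝒜) hn k r, map_add, sub_add_cancel_right, neg_mem_iff]
    exact isHomogeneous_iff.mp hQh k q hq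
  have hker : LinearMap.ker h = ⊥ := (Submodule.eq_bot_iff _).mpr fun x hx => by
    refine eq_zero_of_proj N'.gr fun g => ?_
    obtain ⟨n, hn, hne⟩ := proj_mem N'.gr g x
    rw [← hne]
    by_contra hne0
    have hnQ : n ∉ Q := fun hm => hne0 ((Submodule.Quotient.mk_eq_zero Q).mpr hm)
    obtain ⟨_, r, -, p, hp, hp0, hrp⟩ := hessN g n hn hnQ
    have h1 : h (Q.mkQ n) = 0 := by
      have := isHomogeneous_iff.mp (isHomogeneous_ker hh) g x hx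
      rw [LinearMap.mem_ker, ← hne] at this
      exact this
    have h2 : Q.mkQ (r • n) = Q.mkQ p := (Submodule.Quotient.eq Q).mpr hrp
    apply hp0
    have h3 : h (Q.mkQ p) = p := hhP ⟨p, hp⟩
    refine h3.symm.trans ?_
    rw [← h2, map_smul]
    exact (h.map_smul r _).trans (by rw [h1, smul_zero])
  have hrangeh : LinearMap.range h ≤ P := by
    refine hmax ⟨isHomogeneous_range hh, hKP.trans fun p hp => ⟨_, hhP ⟨p, hp⟩⟩, fun g y hy hyr hy0 => ?_⟩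
      fun p hp => ⟨_, hhP ⟨p, hp⟩⟩
    obtain ⟨x, hx⟩ := hyr
    have hyg : h (proj N'.gr g x) = y := by rw [← proj_map hh, hx, proj_of_mem 𝒩 hy]
    obtain ⟨n, hn, hne⟩ := proj_mem N'.gr g x
    have hnQ : n ∉ Q := fun hm => hy0 (by
      rw [← hyg, ← hne]
      exact (congrArg h ((Submodule.Quotient.mk_eq_zero Q).mpr hm)).trans (map_zero h))
    obtain ⟨k', r, hr, p, hp, hp0, hrp⟩ := hessN g n hn hnQ
    have hry : r • y = p := by
      rw [← hyg, ← hne]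
      refine ((h.map_smul r _).symm.trans ?_).trans (hhP ⟨p, hp⟩)
      exact congrArg h ((Q.mkQ.map_smul r n).symm.trans ((Submodule.Quotient.eq Q).mpr hrp))
    obtain ⟨k, s, hs, hsK, hs0⟩ := hPe (k' + g) p (hry ▸ SetLike.GradedSMul.smul_mem (B := 𝒩) hr hy) hp hp0
    exact ⟨k + k', s * r, SetLike.GradedMul.mul_mem hs hr, by rwa [mul_smul, hry], by rwa [mul_smul, hry]⟩
  refine ⟨P, hPh, hKP, hPe, ?_⟩
  let s : N →ₗ[R] P'.carrier := (h ∘ₗ Q.mkQ).codRestrict P fun x => hrangeh ⟨_, rfl⟩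
  refine isStarInj_retract (𝒩 := 𝒩) hN P.subtype s (fun _ _ hx => hx) (fun g x hx => ?_) fun p => Subtype.ext (hhP p)
  exact hh g _ ⟨x, hx, rfl⟩

/-- Every graded module embeds in a graded injective, namely the cofree module on an injective module. -/
theorem exists_starInj_embedding [Decomposition ℳ] [SetLike.GradedSMul 𝒜 ℳ] (I : Type u) [AddCommGroup I] [Module R I]
    [Module.Injective R I] (e : M →ₗ[R] I) (he : Function.Injective e) :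
    GrLC.IsStarInj 𝒜 (grPiece 𝒜 I) ∧ GrLC.IsGrHom ℳ (grPiece 𝒜 I) (lift (𝒜 := 𝒜) ℳ e) ∧
      Function.Injective (lift (𝒜 := 𝒜) ℳ e) :=
  ⟨isStarInj_cofree I, lift_grHom ℳ e, lift_injective ℳ e he⟩

end Groth.Agent.GrInj
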