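import Mathlib
import Groth.Agent.GrInj.Ess

/-! Graded injective hulls, resolutions, and hulls of graded primes. -/

set_option autoImplicit false

universe u

open DirectSum

namespace Groth.Agent.GrInj

variable {ι : Type} [AddCommGroup ι] [DecidableEq ι]
variable {R : Type u} [CommRing R] {𝒜 : ι → AddSubgroup R} [GradedRing 𝒜]

section Hull

variable {M : Type u} [AddCommGroup M] [Module R M] {ℳ : ι → AddSubgroup M}
variable {N : Type u} [AddCommGroup N] [Module R N] {𝒩 : ι → AddSubgroup N} [Decomposition 𝒩]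
  [SetLike.GradedSMul 𝒜 𝒩]

/-- A graded injective contains a hull of any module mapping injectively and homogeneously into it. -/
theorem exists_hull_inside (hℳ : ∀ m : M, m ∈ ⨆ g, ℳ g) (hN : GrLC.IsStarInj 𝒜 𝒩) {e : M →ₗ[R] N}
    (he : GrLC.IsGrHom ℳ 𝒩 e) (hinj : Function.Injective e) :
    ∃ (E : GrLC.GMod.{u} 𝒜) (f : M →ₗ[R] E.carrier) (ψ : E.carrier →ₗ[R] N),
      GrLC.IsStarInjHull 𝒜 ℳ E.gr f ∧ GrLC.IsGrHom E.gr 𝒩 ψ ∧ Function.Injective ψ ∧ ψ ∘ₗ f = e := by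
  obtain ⟨P, hP, hKP, hess, hPinj⟩ := exists_hull_le hN _ (isHomogeneous_range_of_span hℳ he)
  let f : M →ₗ[R] (subGMod (𝒜 := 𝒜) 𝒩 P hP).carrier := e.codRestrict P fun m => hKP ⟨m, rfl⟩
  refine ⟨_, f, P.subtype, ⟨isStarEss_of_ess (𝒜 := 𝒜) (N := (subGMod (𝒜 := 𝒜) 𝒩 P hP).carrier)
      (fun a b h => hinj (congrArg Subtype.val h)) (fun g m hm => he g m hm) ?_, hPinj⟩,
    fun g x hx => hx, Subtype.val_injective, rfl⟩
  intro g y hy _ hy0
  obtain ⟨h, r, hr, ⟨m, hm⟩, hry0⟩ := hess g (y : P).1 hy (y : P).2 fun h => hy0 (Subtype.ext h)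
  exact ⟨h, r, hr, ⟨m, Subtype.ext hm⟩, fun h => hry0 (congrArg Subtype.val h)⟩

variable [Decomposition ℳ] [SetLike.GradedSMul 𝒜 ℳ]

/-- Graded injective hulls exist inside any injective module. -/
theorem exists_hull_sub_injective (I : Type u) [AddCommGroup I] [Module R I] [Module.Injective R I]
    (e : M →ₗ[R] I) (he : Function.Injective e) :
    ∃ (E : GrLC.GMod.{u} 𝒜) (f : M →ₗ[R] E.carrier), GrLC.IsStarInjHull 𝒜 ℳ E.gr f ∧
      ∃ j : E.carrier →ₗ[R] I, Function.Injective j ∧ j ∘ₗ f = e := by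
  obtain ⟨hI, hgr, hi⟩ := exists_starInj_embedding (𝒜 := 𝒜) (ℳ := ℳ) I e he
  obtain ⟨E, f, ψ, hf, -, hψi, hψ⟩ := exists_hull_inside (mem_iSup ℳ) hI hgr hi
  refine ⟨E, f, hf, total I ∘ₗ ψ, ?_, ?_⟩
  · have hje : (total I ∘ₗ ψ) ∘ₗ f = e := by
      rw [LinearMap.comp_assoc, hψ]
      refine LinearMap.ext fun m => ?_
      induction m using Decomposition.inductionOn ℳ with
      | zero => simp
      | add a b ha hb => simp only [map_add, ha, hb]
      | @homogeneous g a => rw [LinearMap.comp_apply, lift_of_mem ℳ e a.2, total_single]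
    have hess := isEssentialInj_of_ess (𝒜 := 𝒜) hf.injective (isHomogeneous_range_of_span (mem_iSup ℳ) hf.grHom)
      (ess_of_isStarEss (isHomogeneous_range_of_span (mem_iSup ℳ) hf.grHom) hf.toIsStarEss)
    refine LinearMap.ker_eq_bot.mp (by_contra fun hk => hess.essential _ hk ((Submodule.eq_bot_iff _).mpr ?_))
    rintro _ ⟨hx, m, rfl⟩
    have h1 : (total I ∘ₗ ψ) (f m) = 0 := hx
    rw [← LinearMap.comp_apply, hje] at h1
    rw [(map_eq_zero_iff e he).mp h1, map_zero]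
  · rw [LinearMap.comp_assoc, hψ]
    refine LinearMap.ext fun m => ?_
    induction m using Decomposition.inductionOn ℳ with
    | zero => simp
    | add a b ha hb => simp only [map_add, ha, hb]
    | @homogeneous g a => rw [LinearMap.comp_apply, lift_of_mem ℳ e a.2, total_single]

theorem exists_hull : ∃ (E : GrLC.GMod.{u} 𝒜) (f : M →ₗ[R] E.carrier), GrLC.IsStarInjHull 𝒜 ℳ E.gr f := by
  obtain ⟨⟨J, hJ, f, hf⟩⟩ := CategoryTheory.EnoughInjectives.presentation (C := ModuleCat.{u} R) (ModuleCat.of R M)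
  have : Module.Injective R J := Module.injective_module_of_injective_object R J
  obtain ⟨E, g, hg, -⟩ := exists_hull_sub_injective (𝒜 := 𝒜) (ℳ := ℳ) J f.hom ((ModuleCat.mono_iff_injective f).mp hf)
  exact ⟨E, g, hg⟩

theorem isStarInj_iff : GrLC.IsStarInj 𝒜 ℳ ↔
    ∀ (E : GrLC.GMod.{u} 𝒜) (f : M →ₗ[R] E.carrier), GrLC.IsStarEss ℳ E.gr f → Function.Surjective f := by
  constructor
  · intro hM E f hf
    obtain ⟨s, hs, -, hc⟩ := exists_retraction hM hf.grHom hf.injective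
    rw [← LinearMap.range_eq_top]
    have hk : LinearMap.ker s = ⊥ :=
      by_contra fun hk => hf.essential _ (isHomogeneous_ker hs) hk (disjoint_iff.mp hc.disjoint.symm)
    have h1 := hc.sup_eq_top
    rwa [hk, sup_bot_eq] at h1
  · intro h
    obtain ⟨E, f, hf⟩ := exists_hull (𝒜 := 𝒜) (ℳ := ℳ)
    let e := LinearEquiv.ofBijective f ⟨hf.injective, h E f hf.toIsStarEss⟩
    exact isStarInj_retract hf.starInj f e.symm.toLinearMap hf.grHom (grHom_symm (e := e) hf.grHom) e.symm_apply_apply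

end Hull

theorem hull_unique {M E₁ E₂ : Type u} [AddCommGroup M] [Module R M] [AddCommGroup E₁] [Module R E₁] [AddCommGroup E₂] [Module R E₂]
    {ℳ : ι → AddSubgroup M} [Decomposition ℳ] [SetLike.GradedSMul 𝒜 ℳ] {𝓔₁ : ι → AddSubgroup E₁} [Decomposition 𝓔₁]
    [SetLike.GradedSMul 𝒜 𝓔₁] {𝓔₂ : ι → AddSubgroup E₂} [Decomposition 𝓔₂] [SetLike.GradedSMul 𝒜 𝓔₂]
    {f₁ : M →ₗ[R] E₁} {f₂ : M →ₗ[R] E₂} (h₁ : GrLC.IsStarInjHull 𝒜 ℳ 𝓔₁ f₁) (h₂ : GrLC.IsStarInjHull 𝒜 ℳ 𝓔₂ f₂) :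
    ∃ β : E₁ ≃ₗ[R] E₂, GrLC.IsGrHom 𝓔₁ 𝓔₂ β.toLinearMap ∧ β.toLinearMap ∘ₗ f₁ = f₂ := by
  obtain ⟨h, hh, hhf⟩ : ∃ h : E₁ →ₗ[R] E₂, GrLC.IsGrHom 𝓔₁ 𝓔₂ h ∧ h ∘ₗ f₁ = f₂ :=
    h₂.starInj (GrLC.GMod.of 𝒜 M ℳ) (GrLC.GMod.of 𝒜 E₁ 𝓔₁) f₁ h₁.grHom h₁.injective f₂ h₂.grHom
  have hker : LinearMap.ker h = ⊥ := by_contra fun hk => h₁.essential _ (isHomogeneous_ker hh) hk
    ((Submodule.eq_bot_iff _).mpr fun x ⟨hx, m, hm⟩ => by
      subst hm
      have h0 : f₂ m = 0 := (LinearMap.congr_fun hhf m).symm.trans hx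
      rw [(map_eq_zero_iff f₂ h₂.injective).mp h0, map_zero])
  obtain ⟨s, hs, hsh, hc⟩ := exists_retraction h₁.starInj hh (LinearMap.ker_eq_bot.mp hker)
  have hks : LinearMap.ker s = ⊥ := by_contra fun hk => h₂.essential _ (isHomogeneous_ker hs) hk
    (le_bot_iff.mp ((inf_le_inf_left _ (hhf ▸ LinearMap.range_comp_le_range f₁ h)).trans
      (disjoint_iff.mp hc.disjoint.symm).le))
  have hsurj : Function.Surjective h := by
    rw [← LinearMap.range_eq_top]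
    have h1 := hc.sup_eq_top
    rwa [hks, sup_bot_eq] at h1
  exact ⟨LinearEquiv.ofBijective h ⟨LinearMap.ker_eq_bot.mp hker, hsurj⟩, hh, hhf⟩

/-! ### Resolutions -/

theorem exists_embedding (X : GrLC.GMod.{u} 𝒜) :
    ∃ p : (I : GrLC.GMod.{u} 𝒜) × (X.carrier →ₗ[R] I.carrier),
      GrLC.IsGrHom X.gr p.1.gr p.2 ∧ Function.Injective p.2 ∧ GrLC.IsStarInj 𝒜 p.1.gr := by
  obtain ⟨E, f, hf⟩ := exists_hull (𝒜 := 𝒜) (ℳ := X.gr)
  exact ⟨⟨E, f⟩, hf.grHom, hf.injective, hf.starInj⟩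

/-- The next cosyzygy. -/
noncomputable def cosyz (X : GrLC.GMod.{u} 𝒜) : GrLC.GMod.{u} 𝒜 :=
  quotGMod (𝒜 := 𝒜) (exists_embedding X).choose.1.gr (LinearMap.range (exists_embedding X).choose.2)
    (isHomogeneous_range (exists_embedding X).choose_spec.1)

/-- The iterated cosyzygies. -/
noncomputable def cosyzN (X : GrLC.GMod.{u} 𝒜) : ℕ → GrLC.GMod.{u} 𝒜
  | 0 => X
  | n + 1 => cosyz (cosyzN X n)

theorem nonempty_starInjRes {M : Type u} [AddCommGroup M] [Module R M] (ℳ : ι → AddSubgroup M) [Decomposition ℳ]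
    [SetLike.GradedSMul 𝒜 ℳ] : Nonempty (GrLC.StarInjRes 𝒜 ℳ) := by
  let Z : ℕ → GrLC.GMod.{u} 𝒜 := cosyzN (GrLC.GMod.of 𝒜 M ℳ)
  let I : ℕ → GrLC.GMod.{u} 𝒜 := fun n => (exists_embedding (Z n)).choose.1
  let e : ∀ n, (Z n).carrier →ₗ[R] (I n).carrier := fun n => (exists_embedding (Z n)).choose.2
  let q : ∀ n, (I n).carrier →ₗ[R] (Z (n + 1)).carrier := fun n =>
    (LinearMap.range (exists_embedding (Z n)).choose.2).mkQ
  have hq : ∀ n, LinearMap.ker (q n) = LinearMap.range (e n) := fun n => Submodule.ker_mkQ _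
  have hsurj : ∀ n, Function.Surjective (q n) := fun n => Submodule.mkQ_surjective _
  refine ⟨{
    X := I
    d := fun n => e (n + 1) ∘ₗ q n
    ε := e 0
    d_grHom := fun n g x hx => (exists_embedding (Z (n + 1))).choose_spec.1 g _ ⟨x, hx, rfl⟩
    ε_grHom := (exists_embedding (Z 0)).choose_spec.1
    ε_injective := (exists_embedding (Z 0)).choose_spec.2.1
    exact_zero := ?_
    exact_succ := fun n => ?_
    starInj := fun n => (exists_embedding (Z n)).choose_spec.2.2 }⟩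
  · exact (LinearMap.ker_comp_of_ker_eq_bot _ (LinearMap.ker_eq_bot.mpr (exists_embedding (Z 1)).choose_spec.2.1)).trans (hq 0)
  · refine ((LinearMap.ker_comp_of_ker_eq_bot _ (LinearMap.ker_eq_bot.mpr (exists_embedding (Z (n + 2))).choose_spec.2.1)).trans
      (hq (n + 1))).trans ?_
    rw [LinearMap.range_comp_of_range_eq_top _ (LinearMap.range_eq_top.mpr (hsurj n))]

/-! ### Hulls of graded primes -/

theorem quotGr_span (p : HomogeneousIdeal 𝒜) (x : R ⧸ p.toIdeal) : x ∈ ⨆ g, GrLC.quotGr 𝒜 p g := by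
  obtain ⟨r, rfl⟩ := Ideal.Quotient.mk_surjective x
  induction r using Decomposition.inductionOn 𝒜 with
  | zero => rw [map_zero]; exact zero_mem _
  | @homogeneous g a => exact AddSubgroup.mem_iSup_of_mem g ⟨(a : R), a.2, rfl⟩
  | add a b ha hb => rw [map_add]; exact add_mem ha hb

section Prime

variable {p : HomogeneousIdeal 𝒜} {E : Type u} [AddCommGroup E] [Module R E]
  {𝓔 : ι → AddSubgroup E} [Decomposition 𝓔] [SetLike.GradedSMul 𝒜 𝓔] {e : (R ⧸ p.toIdeal) →ₗ[R] E}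

theorem essInj_prime (he : GrLC.IsStarEss (GrLC.quotGr 𝒜 p) 𝓔 e) : InjHull.IsEssentialInj e :=
  isEssentialInj_of_ess (𝒜 := 𝒜) he.injective (isHomogeneous_range_of_span (quotGr_span p) he.grHom)
    (ess_of_isStarEss (isHomogeneous_range_of_span (quotGr_span p) he.grHom) he)

theorem exists_smul_eq_e (he : GrLC.IsStarEss (GrLC.quotGr 𝒜 p) 𝓔 e) {x : E} (hx : x ≠ 0) :
    ∃ (s a : R), a ∉ p.toIdeal ∧ s • x = e (Ideal.Quotient.mk _ a) := by
  obtain ⟨z, ⟨hz, b, rfl⟩, hz0⟩ :=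
    Submodule.exists_mem_ne_zero_of_ne_bot ((essInj_prime he).essential (R ∙ x) (by simpa using hx))
  obtain ⟨s, hs⟩ := Submodule.mem_span_singleton.mp hz
  obtain ⟨a, rfl⟩ := Ideal.Quotient.mk_surjective b
  exact ⟨s, a, fun ha => hz0 (by rw [Ideal.Quotient.eq_zero_iff_mem.mpr ha, map_zero]), hs⟩

theorem smul_e (r a : R) : r • e (Ideal.Quotient.mk _ a) = e (Ideal.Quotient.mk _ (r * a)) := by
  rw [← map_smul, Algebra.smul_def]
  rfl

theorem e_eq_zero_iff (he : GrLC.IsStarEss (GrLC.quotGr 𝒜 p) 𝓔 e) (a : R) :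
    e (Ideal.Quotient.mk _ a) = 0 ↔ a ∈ p.toIdeal := by
  rw [map_eq_zero_iff e he.injective, Ideal.Quotient.eq_zero_iff_mem]

variable [p.toIdeal.IsPrime]

theorem isStarIndec_hull (he : GrLC.IsStarEss (GrLC.quotGr 𝒜 p) 𝓔 e) : GrLC.IsStarIndec R 𝓔 := by
  have hp : p.toIdeal ≠ ⊤ := Ideal.IsPrime.ne_top ‹_›
  haveI : Nontrivial (R ⧸ p.toIdeal) := Ideal.Quotient.nontrivial_iff.mpr hp
  refine ⟨he.injective.nontrivial, fun P Q _ _ hPQ => ?_⟩
  by_contra h
  rw [not_or] at h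
  obtain ⟨_, ⟨hxP, a, rfl⟩, ha0⟩ := Submodule.exists_mem_ne_zero_of_ne_bot ((essInj_prime he).essential P h.1)
  obtain ⟨_, ⟨hyQ, b, rfl⟩, hb0⟩ := Submodule.exists_mem_ne_zero_of_ne_bot ((essInj_prime he).essential Q h.2)
  obtain ⟨a, rfl⟩ := Ideal.Quotient.mk_surjective a
  obtain ⟨b, rfl⟩ := Ideal.Quotient.mk_surjective b
  rw [ne_eq, e_eq_zero_iff he] at ha0 hb0
  have h1 : e (Ideal.Quotient.mk _ (b * a)) ∈ P ⊓ Q :=
    ⟨smul_e (e := e) b a ▸ P.smul_mem b hxP, mul_comm a b ▸ smul_e (e := e) a b ▸ Q.smul_mem a hyQ⟩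
  rw [hPQ.inf_eq_bot, Submodule.mem_bot, e_eq_zero_iff he] at h1
  exact (Ideal.IsPrime.mem_or_mem ‹_› h1).elim hb0 ha0

theorem smul_bijective_hull (he : GrLC.IsStarInjHull 𝒜 (GrLC.quotGr 𝒜 p) 𝓔 e) (g : ι) {r : R} (hr : r ∈ 𝒜 g)
    (hrp : r ∉ p.toIdeal) : Function.Bijective (fun x : E => r • x) := by
  let f : E →ₗ[R] E := LinearMap.lsmul R E r
  have hinj : Function.Injective f := (injective_iff_map_eq_zero f).mpr fun x hx => by_contra fun hx0 => by
    obtain ⟨s, a, ha, hs⟩ := exists_smul_eq_e he.toIsStarEss hx0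
    have h1 : e (Ideal.Quotient.mk _ (r * a)) = 0 := by
      rw [← smul_e, ← hs, smul_comm, show r • x = 0 from hx, smul_zero]
    exact (Ideal.IsPrime.mem_or_mem ‹_› ((e_eq_zero_iff he.toIsStarEss _).mp h1)).elim hrp ha
  refine ⟨hinj, ?_⟩
  obtain ⟨s, -, hsf⟩ : ∃ s : E →ₗ[R] E, GrLC.IsGrHom (shiftGMod 𝒜 𝓔 (-g)).gr 𝓔 s ∧ s ∘ₗ f = LinearMap.id :=
    he.starInj (GrLC.GMod.of 𝒜 E 𝓔) (shiftGMod 𝒜 𝓔 (-g)) f (fun k x hx => by
      show r • x ∈ 𝓔 (k - -g)
      rw [sub_neg_eq_add, add_comm]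
      exact SetLike.GradedSMul.smul_mem hr hx) hinj LinearMap.id fun _ _ h => h
  have hsf' : ∀ x, s (r • x) = x := fun x => LinearMap.congr_fun hsf x
  have hs : ∀ x, s x = 0 → x = 0 := fun x hx => by_contra fun hx0 => by
    obtain ⟨t, a, ha, ht⟩ := exists_smul_eq_e he.toIsStarEss hx0
    have h1 : t • x = 0 → False := fun h => ha ((e_eq_zero_iff he.toIsStarEss _).mp (ht ▸ h))
    refine h1 (hinj ?_)
    have h2 : s (t • x) = 0 := by rw [map_smul, hx, smul_zero]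
    have h3 : s (r • (t • x)) = 0 := by rw [map_smul, h2, smul_zero]
    rw [hsf'] at h3
    rw [h3]
  intro x
  refine ⟨s x, ?_⟩
  show r • s x = x
  rw [← sub_eq_zero]
  exact hs _ (by rw [map_sub, hsf', sub_self])

theorem gam_hull [IsNoetherianRing R] (he : GrLC.IsStarEss (GrLC.quotGr 𝒜 p) 𝓔 e) : GrLC.gam p.toIdeal E = ⊤ := by
  refine eq_top_iff.mpr fun x _ => ?_
  have hrad : p.toIdeal ≤ ((R ∙ x).annihilator).radical := fun r hr => by
    let A : ℕ →o Ideal R := ⟨fun n => (R ∙ r ^ n • x).annihilator, fun a b hab t ht => by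
      rw [Submodule.mem_annihilator_span_singleton] at ht ⊢
      rw [← Nat.sub_add_cancel hab, pow_add, mul_smul, smul_comm, ht, smul_zero]⟩
    obtain ⟨n, hn⟩ := monotone_stabilizes_iff_noetherian.mpr ‹IsNoetherianRing R› A
    refine ⟨n, Submodule.mem_annihilator_span_singleton _ _ |>.mpr (by_contra fun hne => ?_)⟩
    obtain ⟨s, a, ha, hs⟩ := exists_smul_eq_e he hne
    have h1 : s ∈ A (n + 1) := (Submodule.mem_annihilator_span_singleton _ _).mpr (by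
      rw [pow_succ', mul_smul, smul_comm, hs, smul_e, e_eq_zero_iff he]
      exact Ideal.mul_mem_right _ _ hr)
    rw [← hn (n + 1) (Nat.le_succ n)] at h1
    exact ha ((e_eq_zero_iff he a).mp (hs ▸ (Submodule.mem_annihilator_span_singleton _ _).mp h1))
  obtain ⟨n, hn⟩ := Ideal.exists_pow_le_of_le_radical_of_fg hrad (IsNoetherian.noetherian _)
  exact ⟨n, fun t ht => (Submodule.mem_annihilator_span_singleton _ _).mp (hn ht)⟩

theorem prime_le_of_equiv (he : GrLC.IsStarEss (GrLC.quotGr 𝒜 p) 𝓔 e) {q : Ideal R} [q.IsPrime] {y : E}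
    (hy : (R ∙ y).annihilator = q) : p.toIdeal = q := by
  have hy0 : y ≠ 0 := fun h => Ideal.IsPrime.ne_top ‹q.IsPrime› (by
    rw [← hy, Ideal.eq_top_iff_one, Submodule.mem_annihilator_span_singleton, one_smul, h])
  obtain ⟨s, a, ha, hs⟩ := exists_smul_eq_e he hy0
  ext t
  constructor <;> intro ht
  · have h1 : t * s ∈ q := by
      rw [← hy, Submodule.mem_annihilator_span_singleton, mul_smul, hs, smul_e, e_eq_zero_iff he]
      exact Ideal.mul_mem_right _ _ ht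
    refine (Ideal.IsPrime.mem_or_mem ‹_› h1).resolve_right fun h2 => ha ?_
    rw [← e_eq_zero_iff he, ← hs]
    rw [← hy, Submodule.mem_annihilator_span_singleton] at h2
    exact h2
  · rw [← hy, Submodule.mem_annihilator_span_singleton] at ht
    have h1 : t * a ∈ p.toIdeal := by rw [← e_eq_zero_iff he, ← smul_e, ← hs, smul_comm, ht, smul_zero]
    exact (Ideal.IsPrime.mem_or_mem ‹_› h1).resolve_right ha

end Prime

theorem eq_of_equiv {p q : HomogeneousIdeal 𝒜} [p.toIdeal.IsPrime] [q.toIdeal.IsPrime]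
    {E : Type u} [AddCommGroup E] [Module R E] {𝓔 : ι → AddSubgroup E} [Decomposition 𝓔] [SetLike.GradedSMul 𝒜 𝓔]
    {e : (R ⧸ p.toIdeal) →ₗ[R] E} (he : GrLC.IsStarEss (GrLC.quotGr 𝒜 p) 𝓔 e)
    {F : Type u} [AddCommGroup F] [Module R F] {𝓕 : ι → AddSubgroup F} [Decomposition 𝓕] [SetLike.GradedSMul 𝒜 𝓕]
    {f : (R ⧸ q.toIdeal) →ₗ[R] F} (hf : GrLC.IsStarEss (GrLC.quotGr 𝒜 q) 𝓕 f) (φ : E ≃ₗ[R] F) : p = q := by
  refine HomogeneousSubmodule.toSubmodule_injective _ _ ?_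
  show p.toIdeal = q.toIdeal
  refine (prime_le_of_equiv hf (y := φ (e (Ideal.Quotient.mk _ 1))) ?_).symm
  ext t
  rw [Submodule.mem_annihilator_span_singleton, ← map_smul, φ.map_eq_zero_iff, smul_e, e_eq_zero_iff he, mul_one]

/-! ### Homogeneous elements with prime annihilator -/

theorem isHomogeneous_annihilator {I : Type u} [AddCommGroup I] [Module R I] {ℐ : ι → AddSubgroup I}
    [Decomposition ℐ] [SetLike.GradedSMul 𝒜 ℐ] {g₀ : ι} {m : I} (hm : m ∈ ℐ g₀) :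
    ((R ∙ m).annihilator).IsHomogeneous 𝒜 := fun i r hr => by
  rw [Submodule.mem_annihilator_span_singleton] at hr ⊢
  have h1 := proj_smul_mem (𝒜 := 𝒜) hm (i + g₀) r
  rw [hr, map_zero, add_sub_cancel_right] at h1
  exact h1.symm

theorem exists_summand_hull {I : Type u} [AddCommGroup I] [Module R I] {ℐ : ι → AddSubgroup I} [Decomposition ℐ]
    [SetLike.GradedSMul 𝒜 ℐ] (hI : GrLC.IsStarInj 𝒜 ℐ) (q : HomogeneousIdeal 𝒜) (g₀ : ι) (m : I) (hm : m ∈ ℐ g₀)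
    (hann : (R ∙ m).annihilator = q.toIdeal) :
    ∃ (X : GrLC.GMod.{u} 𝒜) (f : (R ⧸ q.toIdeal) →ₗ[R] X.carrier) (ψ : X.carrier →ₗ[R] I) (Q : Submodule R I),
      GrLC.IsStarInjHull 𝒜 (fun j : ι => GrLC.quotGr 𝒜 q (j - g₀)) X.gr f ∧ Function.Injective ψ ∧
      GrLC.IsGrHom X.gr ℐ ψ ∧ ψ (f 1) = m ∧ Q.IsHomogeneous ℐ ∧ IsCompl (LinearMap.range ψ) Q := by
  let e : (R ⧸ q.toIdeal) →ₗ[R] I := Submodule.liftQ q.toIdeal (LinearMap.toSpanSingleton R I m) fun r hr => by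
    rw [← hann, Submodule.mem_annihilator_span_singleton] at hr
    exact hr
  have hinj : Function.Injective e := (injective_iff_map_eq_zero e).mpr fun x hx => by
    obtain ⟨r, rfl⟩ := Ideal.Quotient.mk_surjective x
    rw [Ideal.Quotient.eq_zero_iff_mem, ← hann, Submodule.mem_annihilator_span_singleton]
    exact hx
  have hgr : GrLC.IsGrHom (fun j : ι => GrLC.quotGr 𝒜 q (j - g₀)) ℐ e := by
    rintro j _ ⟨r, hr, rfl⟩
    show r • m ∈ ℐ j
    rw [← sub_add_cancel j g₀]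
    exact SetLike.GradedSMul.smul_mem (A := 𝒜) (B := ℐ) hr hm
  obtain ⟨X, f, ψ, hf, hψ, hψi, hψf⟩ := exists_hull_inside (fun x => by
    refine (iSup_le fun g => ?_ : (⨆ g, GrLC.quotGr 𝒜 q g) ≤ ⨆ j, GrLC.quotGr 𝒜 q (j - g₀)) (quotGr_span q x)
    exact le_iSup_of_le (g + g₀) (by rw [add_sub_cancel_right])) hI hgr hinj
  obtain ⟨s, hs, -, hc⟩ := exists_retraction hf.starInj hψ hψi
  exact ⟨X, f, ψ, LinearMap.ker s, hf, hψi, hψ, (LinearMap.congr_fun hψf 1).trans (one_smul R m),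
    isHomogeneous_ker hs, hc⟩

theorem isPrime_of_homogeneous {ι : Type} [AddCommGroup ι] [d : DecidableEq ι] [Module.Free ℤ ι] [Module.Finite ℤ ι]
    {R : Type u} [CommRing R] {𝒜 : ι → AddSubgroup R} [GradedRing 𝒜] {I : Ideal R} (hI : I.IsHomogeneous 𝒜)
    (hne : I ≠ ⊤) (h : ∀ {x y : R}, SetLike.IsHomogeneousElem 𝒜 x → SetLike.IsHomogeneousElem 𝒜 y → x * y ∈ I → x ∈ I ∨ y ∈ I) :
    I.IsPrime := by
  obtain ⟨κ, b⟩ := Module.Free.exists_basis (R := ℤ) (M := ι)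
  haveI : Finite κ := Module.Finite.finite_basis b
  letI : Fintype κ := Fintype.ofFinite κ
  letI : LinearOrder κ := LinearOrder.lift' (Fintype.equivFin κ) (Fintype.equivFin κ).injective
  let em : ι → Lex (κ → ℤ) := fun v => toLex (b.equivFun v)
  let L : LinearOrder ι := LinearOrder.lift' em fun a c h => b.equivFun.injective (toLex.injective h)
  obtain rfl : d = L.toDecidableEq := Subsingleton.elim _ _
  letI := L
  haveI : IsOrderedCancelAddMonoid ι :=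
    Function.Injective.isOrderedCancelAddMonoid em (fun a c => by simp only [em, map_add, toLex_add]) .rfl
  exact Ideal.IsHomogeneous.isPrime_of_homogeneous_mem_or_mem hI hne h

theorem exists_hull_of_indec [Module.Free ℤ ι] [Module.Finite ℤ ι] [IsNoetherianRing R] {I : Type u} [AddCommGroup I]
    [Module R I] {ℐ : ι → AddSubgroup I} [Decomposition ℐ] [SetLike.GradedSMul 𝒜 ℐ]
    (hI : GrLC.IsStarInj 𝒜 ℐ) (hind : GrLC.IsStarIndec R ℐ) :
    ∃ (q : HomogeneousIdeal 𝒜) (g₀ : ι) (f : (R ⧸ q.toIdeal) →ₗ[R] I),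
      q.toIdeal.IsPrime ∧ GrLC.IsStarInjHull 𝒜 (fun j : ι => GrLC.quotGr 𝒜 q (j - g₀)) ℐ f := by
  haveI := hind.1
  obtain ⟨x, hx⟩ := exists_ne (0 : I)
  obtain ⟨g, hg⟩ := exists_proj_ne_zero ℐ hx
  obtain ⟨J, ⟨g₀, m, hm, hm0, rfl⟩, hmax⟩ := set_has_maximal_iff_noetherian.mpr ‹IsNoetherianRing R›
    {J : Ideal R | ∃ g m, m ∈ ℐ g ∧ m ≠ 0 ∧ (R ∙ m).annihilator = J} ⟨_, g, _, proj_mem ℐ g x, hg, rfl⟩
  let q : HomogeneousIdeal 𝒜 := ⟨(R ∙ m).annihilator, isHomogeneous_annihilator hm⟩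
  have hq : q.toIdeal.IsPrime := by
    refine isPrime_of_homogeneous q.isHomogeneous ?_ ?_
    · intro h
      have : (1 : R) ∈ (R ∙ m).annihilator := (h.ge trivial :)
      rw [Submodule.mem_annihilator_span_singleton, one_smul] at this
      exact hm0 this
    · rintro a c ⟨i, ha⟩ ⟨j, hc⟩ hac
      refine or_iff_not_imp_right.mpr fun hcq => ?_
      have hcm : c • m ≠ 0 := fun h => hcq ((Submodule.mem_annihilator_span_singleton _ _).mpr h)
      have hle : (R ∙ m).annihilator ≤ (R ∙ c • m).annihilator := fun t ht => by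
        rw [Submodule.mem_annihilator_span_singleton] at ht ⊢
        rw [smul_comm, ht, smul_zero]
      have heq : (R ∙ m).annihilator = (R ∙ c • m).annihilator :=
        eq_of_le_of_not_lt hle (hmax _ ⟨j + g₀, _, SetLike.GradedSMul.smul_mem hc hm, hcm, rfl⟩)
      show a ∈ (R ∙ m).annihilator
      rw [heq, Submodule.mem_annihilator_span_singleton, ← mul_smul]
      exact (Submodule.mem_annihilator_span_singleton _ _).mp hac
  obtain ⟨X, f, ψ, Q, hf, hψi, hψ, hψm, hQ, hc⟩ := exists_summand_hull hI q g₀ m hm rfl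
  have hP : LinearMap.range ψ = ⊤ := by
    rcases hind.2 _ Q (isHomogeneous_range hψ) hQ hc with h | h
    · exact absurd (((Submodule.eq_bot_iff _).mp h) m ⟨f 1, hψm⟩) hm0
    · have h1 := hc.sup_eq_top
      rwa [h, sup_bot_eq] at h1
  refine ⟨q, g₀, ψ ∘ₗ f, hq, { toIsStarEss := ⟨hψi.comp hf.injective, fun j x hx => hψ j _ (hf.grHom j x hx), fun P hPh hP0 => ?_⟩, starInj := hI }⟩
  have hP' : P.comap ψ ≠ ⊥ := fun h => hP0 ((Submodule.eq_bot_iff _).mpr fun y hy => by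
    obtain ⟨z, rfl⟩ := LinearMap.range_eq_top.mp hP y
    rw [(Submodule.eq_bot_iff _).mp h z hy, map_zero])
  obtain ⟨z, ⟨hz, w, hw⟩, hz0⟩ :=
    Submodule.exists_mem_ne_zero_of_ne_bot (hf.essential _ (isHomogeneous_comap hψ hPh) hP')
  exact fun hbot => hz0 (hψi (((Submodule.eq_bot_iff _).mp hbot _ ⟨hz, w, by rw [LinearMap.comp_apply, hw]⟩).trans (map_zero ψ).symm))

end Groth.Agent.GrInj
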