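import Mathlib
import Groth.Agent.GrInj.Hull
import Groth.Agent.LocCohBasic.Derived
import Groth.Agent.LocCohBasic.Vanish

/-! Graded injectives are acyclic; graded local cohomology agrees with local cohomology. -/

set_option autoImplicit false

universe u

open DirectSum CategoryTheory

namespace Groth.Agent.GrInj

variable {ι : Type} [AddCommGroup ι] [DecidableEq ι]
variable {R : Type u} [CommRing R] {𝒜 : ι → AddSubgroup R} [GradedRing 𝒜]

theorem exists_hom_gens {M : Type u} [AddCommGroup M] [Module R M] (ℳ : ι → AddSubgroup M) [Decomposition ℳ]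
    [Module.Finite R M] : ∃ (n : ℕ) (d : Fin n → ι) (x : Fin n → M),
      (∀ k, x k ∈ ℳ (d k)) ∧ Submodule.span R (Set.range x) = ⊤ := by
  classical
  obtain ⟨S, hS⟩ := Module.Finite.fg_top (R := R) (M := M)
  let T : Finset (ι × M) := S.biUnion fun s => (decompose ℳ s).support.image fun g => (g, proj ℳ g s)
  refine ⟨T.card, fun k => (T.equivFin.symm k).1.1, fun k => (T.equivFin.symm k).1.2, fun k => ?_, eq_top_iff.mpr ?_⟩
  · obtain ⟨s, -, hs⟩ := Finset.mem_biUnion.mp (T.equivFin.symm k).2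
    obtain ⟨g, -, hg⟩ := Finset.mem_image.mp hs
    show (T.equivFin.symm k).1.2 ∈ ℳ (T.equivFin.symm k).1.1
    rw [← hg]
    exact proj_mem ℳ g s
  · rw [← hS, Submodule.span_le]
    intro s hs
    refine mem_of_proj ℳ _ fun g => ?_
    by_cases h : g ∈ (decompose ℳ s).support
    · exact Submodule.subset_span ⟨T.equivFin ⟨(g, proj ℳ g s), Finset.mem_biUnion.mpr ⟨s, hs, Finset.mem_image_of_mem _ h⟩⟩, by simp⟩
    · have : proj ℳ g s = 0 := by
        show ((decompose ℳ s g : ℳ g) : M) = 0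
        rw [DFinsupp.notMem_support_iff.mp h]; rfl
      rw [this]; exact zero_mem _

/-- The pieces of a free module with shifted generators. -/
def freePiece (𝒜 : ι → AddSubgroup R) {n : ℕ} (d : Fin n → ι) (g : ι) : AddSubgroup (Fin n → R) :=
  AddSubgroup.pi Set.univ fun k => 𝒜 (g - d k)

noncomputable instance freeDecomposition {n : ℕ} (d : Fin n → ι) : Decomposition (freePiece 𝒜 d) :=
  mkDecomposition _
    (fun g => AddMonoidHom.mk' (fun x k => proj 𝒜 (g - d k) (x k)) fun x y => funext fun k => map_add _ _ _)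
    (fun g x hx => funext fun k => proj_of_mem 𝒜 (hx k trivial))
    (fun g h hne x hx => funext fun k => proj_of_mem_ne 𝒜 (hx k trivial) fun e => hne (sub_left_injective e))
    (fun x => by
      classical
      have : x = ∑ k, Pi.single k (x k) := (Finset.univ_sum_single x).symm
      rw [this]
      refine sum_mem fun k _ => ?_
      induction (x k) using Decomposition.inductionOn 𝒜 with
      | zero => rw [Pi.single_zero]; exact zero_mem _
      | add a b ha hb => rw [Pi.single_add]; exact add_mem ha hb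
      | @homogeneous j a =>
        refine AddSubgroup.mem_iSup_of_mem (j + d k) fun l _ => ?_
        show (Pi.single k (a : R) : Fin n → R) l ∈ 𝒜 (j + d k - d l)
        by_cases hl : l = k
        · subst hl; rw [Pi.single_eq_same, add_sub_cancel_right]; exact a.2
        · rw [Pi.single_eq_of_ne hl]; exact zero_mem _)

instance freeGradedSMul {n : ℕ} (d : Fin n → ι) : SetLike.GradedSMul 𝒜 (freePiece 𝒜 d) :=
  ⟨fun i j r x hr hx k _ => by
    show r • x k ∈ 𝒜 (i + j - d k)
    rw [add_sub_assoc]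
    exact SetLike.GradedMul.mul_mem hr (hx k trivial)⟩

section Hom

variable {K : Type u} [AddCommGroup K] [Module R K] (𝒦 : ι → AddSubgroup K) [Decomposition 𝒦] [SetLike.GradedSMul 𝒜 𝒦]
variable {I : Type u} [AddCommGroup I] [Module R I] (ℐ : ι → AddSubgroup I) [Decomposition ℐ] [SetLike.GradedSMul 𝒜 ℐ]

/-- The degree `d` part of a linear map. -/
noncomputable def degPart (φ : K →ₗ[R] I) (d : ι) : K →ₗ[R] I where
  toFun a := DirectSum.toAddMonoid (fun g => ((proj ℐ (g + d)).comp φ.toAddMonoidHom).comp (𝒦 g).subtype) (decompose 𝒦 a)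
  map_add' a b := by rw [decompose_add, map_add]
  map_smul' r a := by
    induction r using Decomposition.inductionOn 𝒜 with
    | zero => simp
    | add p q hp hq => simp only [add_smul, decompose_add, map_add, hp, hq, RingHom.id_apply]
    | @homogeneous h p =>
      induction a using Decomposition.inductionOn 𝒦 with
      | zero => simp
      | add b c hb hc => simp only [smul_add, decompose_add, map_add, hb, hc, RingHom.id_apply]
      | @homogeneous g b =>
        have hm : (p : R) • (b : K) ∈ 𝒦 (h + g) := SetLike.GradedSMul.smul_mem p.2 b.2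
        rw [decompose_coe, decompose_of_mem 𝒦 hm, DirectSum.toAddMonoid_of, DirectSum.toAddMonoid_of, RingHom.id_apply]
        simp only [AddMonoidHom.comp_apply, AddSubgroup.coe_subtype, LinearMap.toAddMonoidHom_coe, map_smul]
        rw [add_assoc, proj_smul (𝒜 := 𝒜) p.2]

theorem degPart_of_mem (φ : K →ₗ[R] I) (d : ι) {g : ι} {a : K} (ha : a ∈ 𝒦 g) :
    degPart (𝒜 := 𝒜) 𝒦 ℐ φ d a = proj ℐ (g + d) (φ a) := by
  show DirectSum.toAddMonoid _ (decompose 𝒦 a) = _
  rw [decompose_of_mem 𝒦 ha, DirectSum.toAddMonoid_of]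
  rfl

variable {𝒦 ℐ}

/-- Maps out of finitely generated graded submodules extend to a graded injective. -/
theorem exists_extension (hI : GrLC.IsStarInj 𝒜 ℐ) [Module.Finite R K] {F : Type u} [AddCommGroup F] [Module R F]
    {ℱ : ι → AddSubgroup F} [Decomposition ℱ] [SetLike.GradedSMul 𝒜 ℱ] {j : K →ₗ[R] F} (hj : GrLC.IsGrHom 𝒦 ℱ j)
    (hinj : Function.Injective j) (φ : K →ₗ[R] I) : ∃ ψ : F →ₗ[R] I, ψ ∘ₗ j = φ := by
  classical
  obtain ⟨n, dg, x, hx, hspan⟩ := exists_hom_gens (R := R) 𝒦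
  let D : Finset ι := Finset.univ.biUnion fun k => (decompose ℐ (φ (x k))).support.image fun j => j - dg k
  have hφ : φ = ∑ d ∈ D, degPart (𝒜 := 𝒜) 𝒦 ℐ φ d := LinearMap.ext_on_range hspan fun k => by
    rw [LinearMap.sum_apply]
    simp only [degPart_of_mem (𝒜 := 𝒜) 𝒦 ℐ φ _ (hx k)]
    have h1 : ∑ d ∈ D, proj ℐ (dg k + d) (φ (x k)) =
        ∑ d ∈ (decompose ℐ (φ (x k))).support.image (fun j => j - dg k), proj ℐ (dg k + d) (φ (x k)) := by
      refine (Finset.sum_subset (fun d hd => Finset.mem_biUnion.mpr ⟨k, Finset.mem_univ k, hd⟩) fun d _ hd => ?_).symm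
      show ((decompose ℐ (φ (x k)) (dg k + d) : ℐ _) : I) = 0
      rw [DFinsupp.notMem_support_iff.mp fun h => hd (Finset.mem_image.mpr ⟨_, h, by rw [add_sub_cancel_left]⟩)]
      rfl
    rw [h1, Finset.sum_image fun a _ b _ h => sub_left_injective h]
    simp only [add_sub_cancel]
    exact (sum_support_decompose ℐ _).symm
  have key : ∀ d, ∃ ψ : F →ₗ[R] I, ψ ∘ₗ j = degPart (𝒜 := 𝒜) 𝒦 ℐ φ d := fun d => by
    obtain ⟨ψ, -, hψ⟩ := hI (shiftGMod 𝒜 𝒦 d) (shiftGMod 𝒜 ℱ d) j (fun g a ha => hj _ a ha) hinj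
      (degPart (𝒜 := 𝒜) 𝒦 ℐ φ d) (fun g a ha => by
        have h := degPart_of_mem (𝒜 := 𝒜) 𝒦 ℐ φ d (g := g - d) (a := a) ha
        show degPart (𝒜 := 𝒜) 𝒦 ℐ φ d a ∈ ℐ g
        rw [h, sub_add_cancel]
        exact proj_mem ℐ g _)
    exact ⟨ψ, hψ⟩
  choose ψ hψ using key
  refine ⟨∑ d ∈ D, ψ d, LinearMap.ext fun a => ?_⟩
  rw [LinearMap.comp_apply, LinearMap.sum_apply]
  conv_rhs => rw [hφ, LinearMap.sum_apply]
  exact Finset.sum_congr rfl fun d _ => LinearMap.congr_fun (hψ d) a

theorem subsingleton_ext [IsNoetherianRing R] (hI : GrLC.IsStarInj 𝒜 ℐ) (i : ℕ) :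
    ∀ (M : Type u) [AddCommGroup M] [Module R M] (ℳ : ι → AddSubgroup M) [Decomposition ℳ] [SetLike.GradedSMul 𝒜 ℳ]
      [Module.Finite R M], Subsingleton (Abelian.Ext.{u} (ModuleCat.of R M) (ModuleCat.of R I) (i + 1)) := by
  induction i with
  | zero =>
    intro M _ _ ℳ _ _ _
    obtain ⟨n, d, x, hx, hspan⟩ := exists_hom_gens (R := R) ℳ
    let π : (Fin n → R) →ₗ[R] M := Fintype.linearCombination R x
    have hπ : GrLC.IsGrHom (freePiece 𝒜 d) ℳ π := fun g a ha => by
      show Fintype.linearCombination R x a ∈ ℳ g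
      rw [Fintype.linearCombination_apply]
      refine sum_mem fun k _ => ?_
      show a k • x k ∈ ℳ g
      rw [← sub_add_cancel g (d k)]
      exact SetLike.GradedSMul.smul_mem (A := 𝒜) (B := ℳ) (ha k trivial) (hx k)
    have hsurj : Function.Surjective π := LinearMap.range_eq_top.mp (by rw [Fintype.range_linearCombination, hspan])
    let K := subGMod (𝒜 := 𝒜) (freePiece 𝒜 d) _ (isHomogeneous_ker hπ)
    have hS := LinearMap.shortExact_shortComplexKer hsurj
    have : Projective (LinearMap.shortComplexKer π).X₂ :=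
      inferInstanceAs (Projective (ModuleCat.of R (Fin n → R)))
    refine subsingleton_of_forall_eq 0 fun x₃ => ?_
    obtain ⟨y, hy⟩ := Abelian.Ext.contravariant_sequence_exact₃ hS _ x₃
      (@Subsingleton.elim _ (Abelian.Ext.subsingleton_of_projective _ _ 0) _ _) (n₀ := 0) (by omega)
    haveI : Module.Finite R K.carrier := inferInstanceAs (Module.Finite R (LinearMap.ker π))
    obtain ⟨φ, rfl⟩ := (Abelian.Ext.addEquiv₀ (X := (LinearMap.shortComplexKer π).X₁) (Y := ModuleCat.of R I)).symm.surjective y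
    let j' : K.carrier →ₗ[R] (Fin n → R) := (LinearMap.ker π).subtype
    let φ' : K.carrier →ₗ[R] I := φ.hom
    have hj' : GrLC.IsGrHom K.gr (freePiece 𝒜 d) j' := fun _ _ h => h
    obtain ⟨ψ, hψ⟩ := exists_extension hI hj' Subtype.val_injective φ'
    rw [← hy, show φ = (LinearMap.shortComplexKer π).f ≫ ModuleCat.ofHom ψ from ModuleCat.hom_ext hψ.symm,
      Abelian.Ext.addEquiv₀_symm_apply, ← Abelian.Ext.mk₀_comp_mk₀,
      ← Abelian.Ext.comp_assoc _ _ _ (add_zero 1) (zero_add 0) (by omega), hS.extClass_comp, Abelian.Ext.zero_comp]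
  | succ i ih =>
    intro M _ _ ℳ _ _ _
    obtain ⟨n, d, x, hx, hspan⟩ := exists_hom_gens (R := R) ℳ
    let π : (Fin n → R) →ₗ[R] M := Fintype.linearCombination R x
    have hπ : GrLC.IsGrHom (freePiece 𝒜 d) ℳ π := fun g a ha => by
      show Fintype.linearCombination R x a ∈ ℳ g
      rw [Fintype.linearCombination_apply]
      refine sum_mem fun k _ => ?_
      show a k • x k ∈ ℳ g
      rw [← sub_add_cancel g (d k)]
      exact SetLike.GradedSMul.smul_mem (A := 𝒜) (B := ℳ) (ha k trivial) (hx k)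
    have hsurj : Function.Surjective π := LinearMap.range_eq_top.mp (by rw [Fintype.range_linearCombination, hspan])
    let K := subGMod (𝒜 := 𝒜) (freePiece 𝒜 d) _ (isHomogeneous_ker hπ)
    have hS := LinearMap.shortExact_shortComplexKer hsurj
    have : Projective (LinearMap.shortComplexKer π).X₂ :=
      inferInstanceAs (Projective (ModuleCat.of R (Fin n → R)))
    refine subsingleton_of_forall_eq 0 fun x₃ => ?_
    obtain ⟨y, hy⟩ := Abelian.Ext.contravariant_sequence_exact₃ hS _ x₃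
      (@Subsingleton.elim _ (Abelian.Ext.subsingleton_of_projective _ _ (i + 1)) _ _) (n₀ := i + 1) (by omega)
    haveI : Module.Finite R K.carrier := inferInstanceAs (Module.Finite R (LinearMap.ker π))
    have : Subsingleton (Abelian.Ext.{u} (LinearMap.shortComplexKer π).X₁ (ModuleCat.of R I) (i + 1)) := ih K.carrier K.gr
    rw [← hy, Subsingleton.eq_zero y, Abelian.Ext.comp_zero]

end Hom

theorem isHomogeneous_pow (a : HomogeneousIdeal 𝒜) : ∀ n : ℕ, (a.toIdeal ^ n).IsHomogeneous 𝒜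
  | 0 => by rw [pow_zero, Ideal.one_eq_top]; exact Ideal.IsHomogeneous.top 𝒜
  | n + 1 => by rw [pow_succ]; exact (isHomogeneous_pow a n).mul a.isHomogeneous

theorem subsingleton_localCohomology [IsNoetherianRing R] (a : HomogeneousIdeal 𝒜) {I : Type u} [AddCommGroup I]
    [Module R I] {ℐ : ι → AddSubgroup I} [Decomposition ℐ] [SetLike.GradedSMul 𝒜 ℐ] (hI : GrLC.IsStarInj 𝒜 ℐ) (i : ℕ) :
    Subsingleton (LocCoh.H a.toIdeal (i + 1) I) :=
  LocCohBasic.subsingleton_of_ext _ _ fun k => by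
    let Q := quotGMod (𝒜 := 𝒜) 𝒜 (a.toIdeal ^ k) (isHomogeneous_pow a k)
    haveI : Module.Finite R Q.carrier := inferInstanceAs (Module.Finite R (R ⧸ a.toIdeal ^ k))
    exact subsingleton_ext hI i Q.carrier Q.gr

theorem isHomogeneous_gam (a : HomogeneousIdeal 𝒜) {X : Type u} [AddCommGroup X] [Module R X] {𝒳 : ι → AddSubgroup X}
    [Decomposition 𝒳] [SetLike.GradedSMul 𝒜 𝒳] : (GrLC.gam a.toIdeal X).IsHomogeneous 𝒳 :=
  isHomogeneous_iff.mpr fun g x ⟨n, hn⟩ => ⟨n, fun r hr => by
    classical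
    rw [← sum_support_decompose 𝒜 r, Finset.sum_smul]
    refine Finset.sum_eq_zero fun h _ => ?_
    rw [← proj_smul (decompose 𝒜 r h).2 g x, hn _ (isHomogeneous_pow a n h hr), map_zero]⟩

theorem isInternal_quotGr (X : GrLC.GMod.{u} 𝒜) (P : Submodule R X.carrier) (hP : P.IsHomogeneous X.gr) :
    DirectSum.IsInternal fun g => (X.gr g).map P.mkQ.toAddMonoidHom :=
  DirectSum.Decomposition.isInternal (quotGMod (𝒜 := 𝒜) X.gr P hP).gr

theorem isHomogeneous_comap_gmod (X Y : GrLC.GMod.{u} 𝒜) (f : X.carrier →ₗ[R] Y.carrier) (hf : GrLC.IsGrHom X.gr Y.gr f)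
    (P : Submodule R Y.carrier) (hP : P.IsHomogeneous Y.gr) : (P.comap f).IsHomogeneous X.gr :=
  isHomogeneous_comap hf hP

theorem isInternal_subquot (Y : GrLC.GMod.{u} 𝒜) (C : Submodule R Y.carrier) (hC : C.IsHomogeneous Y.gr)
    (B : Submodule R Y.carrier) (hB : B.IsHomogeneous Y.gr)
    (ℋ : ι → AddSubgroup (↥C ⧸ B.comap C.subtype))
    (hℋ : ∀ g x, x ∈ ℋ g ↔ ∃ z : C, (z : Y.carrier) ∈ Y.gr g ∧ (B.comap C.subtype).mkQ z = x) :
    DirectSum.IsInternal ℋ := by
  have h := isInternal_quotGr (subGMod (𝒜 := 𝒜) Y.gr C hC) (B.comap C.subtype)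
    (isHomogeneous_comap_gmod (subGMod (𝒜 := 𝒜) Y.gr C hC) Y C.subtype (fun _ _ h => h) B hB)
  have e : ℋ = fun g => ((Y.gr g).comap C.subtype.toAddMonoidHom).map (B.comap C.subtype).mkQ.toAddMonoidHom :=
    funext fun g => AddSubgroup.ext (hℋ g)
  rw [e]
  exact h

section Resolution

variable {M : Type u} [AddCommGroup M] [Module R M] {ℳ : ι → AddSubgroup M} [Decomposition ℳ] [SetLike.GradedSMul 𝒜 ℳ]
  (E : GrLC.StarInjRes 𝒜 ℳ) (a : HomogeneousIdeal 𝒜)

theorem isHomogeneous_cocyc (i : ℕ) : (E.cocyc a i).IsHomogeneous (E.X i).gr :=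
  isHomogeneous_inf (isHomogeneous_gam a) (isHomogeneous_ker (E.d_grHom i))

theorem isHomogeneous_cobdy : ∀ i : ℕ, (E.cobdy a i).IsHomogeneous (E.X i).gr
  | 0 => isHomogeneous_iff.mpr fun g x hx => by
    rw [show E.cobdy a 0 = ⊥ from rfl, Submodule.mem_bot] at hx ⊢
    rw [hx, map_zero]
  | n + 1 => isHomogeneous_map (E.d_grHom n) (isHomogeneous_gam a)

theorem isInternal_Hgr (i : ℕ) : DirectSum.IsInternal (E.Hgr a i) :=
  isInternal_subquot (E.X i) _ (isHomogeneous_cocyc E a i) _ (isHomogeneous_cobdy E a i) _ fun _ _ => Iff.rfl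

open LocCohBasic

/-- The cosyzygy sequence. -/
noncomputable def cycSC (n : ℕ) : ShortComplex (ModuleCat.{u} R) :=
  ModuleCat.shortComplexOfCompEqZero (LinearMap.ker (E.d n)).subtype
    ((E.d n).codRestrict (LinearMap.ker (E.d (n + 1))) fun x => by rw [E.exact_succ n]; exact ⟨x, rfl⟩)
    (LinearMap.ext fun x => Subtype.ext x.2)

theorem cycSC_shortExact (n : ℕ) : (cycSC E n).ShortExact := by
  refine ModuleCat.shortComplex_shortExact _ ?_ (Submodule.injective_subtype _) fun z => ?_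
  · intro x
    exact ⟨fun hx => ⟨⟨x, congrArg Subtype.val hx⟩, rfl⟩, fun ⟨y, hy⟩ => hy ▸ Subtype.ext y.2⟩
  · obtain ⟨y, hy⟩ := (E.exact_succ n).le z.2
    exact ⟨y, Subtype.ext hy⟩

variable [IsNoetherianRing R]

theorem nonempty_shift (j n : ℕ) :
    Nonempty (LocCoh.H a.toIdeal (j + 1) (LinearMap.ker (E.d (n + 1))) ≃ₗ[R] LocCoh.H a.toIdeal (j + 2) (LinearMap.ker (E.d n))) := by
  let δ := (delta a.toIdeal (j + 1) (cycSC_shortExact E n)).hom
  refine ⟨LinearEquiv.ofBijective δ ⟨(injective_iff_map_eq_zero δ).mpr fun z hz => ?_, fun x => ?_⟩⟩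
  · obtain ⟨y, hy⟩ := exists_of_delta_eq_zero a.toIdeal (cycSC_shortExact E n) z hz
    have := subsingleton_localCohomology a (E.starInj n) j
    rw [← hy, show y = 0 from @Subsingleton.elim _ this _ _, map_zero]
  · exact exists_of_map_f_eq_zero a.toIdeal (cycSC_shortExact E n) x
      (@Subsingleton.elim _ (subsingleton_localCohomology a (E.starInj n) (j + 1)) _ _)

theorem nonempty_shifts (i : ℕ) : ∀ j : ℕ,
    Nonempty (LocCoh.H a.toIdeal (j + 1) (LinearMap.ker (E.d i)) ≃ₗ[R] LocCoh.H a.toIdeal (i + j + 1) M) := by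
  induction i with
  | zero =>
    intro j
    let e : M ≃ₗ[R] LinearMap.ker (E.d 0) :=
      (LinearEquiv.ofInjective E.ε E.ε_injective).trans (LinearEquiv.ofEq _ _ E.exact_zero.symm)
    rw [show 0 + j + 1 = j + 1 by omega]
    exact ⟨((localCohomology a.toIdeal (j + 1)).mapIso e.toModuleIso.symm).toLinearEquiv⟩
  | succ i ih =>
    intro j
    obtain ⟨e₁⟩ := nonempty_shift E a j i
    obtain ⟨e₂⟩ := ih (j + 1)
    rw [show i + 1 + j + 1 = i + (j + 1) + 1 by omega]
    exact ⟨e₁.trans e₂⟩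

theorem nonempty_H_equiv (i : ℕ) : Nonempty (E.H a i ≃ₗ[R] LocCoh.H a.toIdeal i M) := by
  cases i with
  | zero =>
    have h0 : (E.cobdy a 0).comap (E.cocyc a 0).subtype = ⊥ :=
      (Submodule.eq_bot_iff _).mpr fun x hx => Subtype.ext hx
    let φ : DRing.torsionSub a.toIdeal M →ₗ[R] E.cocyc a 0 :=
      (E.ε ∘ₗ (DRing.torsionSub a.toIdeal M).subtype).codRestrict _ fun m =>
        ⟨m.2.imp fun n hn r hr => by rw [← map_smul]; exact (congrArg E.ε (hn r hr)).trans (map_zero _),
          by rw [E.exact_zero]; exact ⟨_, rfl⟩⟩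
    have hφ : Function.Bijective φ := ⟨fun x y h => Subtype.ext (E.ε_injective (congrArg Subtype.val h)), fun z => by
      obtain ⟨m, hm⟩ := E.exact_zero.le z.2.2
      refine ⟨⟨m, z.2.1.imp fun n hn r hr => E.ε_injective ?_⟩, Subtype.ext hm⟩
      rw [map_smul, hm, map_zero]
      exact hn r hr⟩
    exact ⟨((Submodule.quotEquivOfEqBot _ h0).trans (LinearEquiv.ofBijective φ hφ).symm).trans
      ((zeroIso a.toIdeal).app (ModuleCat.of R M)).toLinearEquiv.symm⟩
  | succ i =>
    obtain ⟨e⟩ := nonempty_shifts E a i 0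
    let hS := cycSC_shortExact E i
    let Γ := ((zeroIso a.toIdeal).app (cycSC E i).X₃).toLinearEquiv
    let κ : E.cocyc a (i + 1) →ₗ[R] DRing.torsionSub a.toIdeal (LinearMap.ker (E.d (i + 1))) :=
      (((E.cocyc a (i + 1)).subtype).codRestrict _ fun z => z.2.2).codRestrict _ fun z =>
        z.2.1.imp fun n hn r hr => Subtype.ext (hn r hr)
    let φ : E.cocyc a (i + 1) →ₗ[R] LocCoh.H a.toIdeal 1 (LinearMap.ker (E.d i)) :=
      (delta a.toIdeal 0 hS).hom ∘ₗ Γ.symm.toLinearMap ∘ₗ κ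
    have hsurj : Function.Surjective φ := fun x => by
      obtain ⟨w, hw⟩ := exists_of_map_f_eq_zero a.toIdeal hS x
        (@Subsingleton.elim _ (subsingleton_localCohomology a (E.starInj i) 0) _ _)
      refine ⟨⟨(Γ w).1.1, (Γ w).2.imp fun n hn r hr => congrArg Subtype.val (hn r hr), (Γ w).1.2⟩, ?_⟩
      show delta a.toIdeal 0 hS (Γ.symm (Γ w)) = x
      rw [Γ.symm_apply_apply, hw]
    have hker : LinearMap.ker φ = (E.cobdy a (i + 1)).comap (E.cocyc a (i + 1)).subtype := by
      ext z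
      have hnat : ∀ y, Γ ((localCohomology a.toIdeal 0).map (cycSC E i).g y) =
          (DRing.gammaI a.toIdeal).map (cycSC E i).g ((zeroIso a.toIdeal).hom.app _ y) := fun y =>
        congrArg (fun t => t.hom y) ((zeroIso a.toIdeal).hom.naturality (cycSC E i).g)
      constructor
      · intro hz
        obtain ⟨y, hy⟩ := exists_of_delta_eq_zero a.toIdeal hS _ hz
        have h1 := (hnat y).symm.trans ((congrArg Γ hy).trans (Γ.apply_symm_apply _))
        exact ⟨_, ((zeroIso a.toIdeal).hom.app _ y).2, congrArg (fun t => t.1.1) h1⟩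
      · rintro ⟨x, hx, hxz⟩
        let y := ((zeroIso a.toIdeal).app (cycSC E i).X₂).toLinearEquiv.symm ⟨x, hx⟩
        have h1 : Γ ((localCohomology a.toIdeal 0).map (cycSC E i).g y) = κ z := by
          rw [hnat]
          erw [LinearEquiv.apply_symm_apply ((zeroIso a.toIdeal).app (cycSC E i).X₂).toLinearEquiv]
          exact Subtype.ext (Subtype.ext hxz)
        show delta a.toIdeal 0 hS (Γ.symm (κ z)) = 0
        rw [← h1, Γ.symm_apply_apply, ← ModuleCat.comp_apply, map_comp_delta]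
        rfl
    exact ⟨((Submodule.quotEquivOfEq _ _ hker.symm).trans (φ.quotKerEquivOfSurjective hsurj)).trans e⟩

end Resolution

end Groth.Agent.GrInj
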