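import Mathlib
import Groth.Agent.GrInj.Acyclic

/-! A *injective module torsion for a graded maximal ideal is injective. -/

set_option autoImplicit false

universe u

open DirectSum

namespace Groth.Agent.GrInj

variable {ι : Type} [AddCommGroup ι] [DecidableEq ι]
variable {R : Type u} [CommRing R] {𝒜 : ι → AddSubgroup R} [GradedRing 𝒜]
variable {E : Type u} [AddCommGroup E] [Module R E] {ℰ : ι → AddSubgroup E} [Decomposition ℰ] [SetLike.GradedSMul 𝒜 ℰ]

theorem exists_extension_ideal [IsNoetherianRing R] (hE : GrLC.IsStarInj 𝒜 ℰ) (m : HomogeneousIdeal 𝒜)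
    (ψ : m.toIdeal →ₗ[R] E) : ∃ Ψ : R →ₗ[R] E, Ψ ∘ₗ m.toIdeal.subtype = ψ := by
  let K := subGMod (𝒜 := 𝒜) 𝒜 m.toIdeal m.isHomogeneous
  haveI : Module.Finite R K.carrier := inferInstanceAs (Module.Finite R m.toIdeal)
  let j' : K.carrier →ₗ[R] R := m.toIdeal.subtype
  have hj' : GrLC.IsGrHom K.gr 𝒜 j' := fun _ _ h => h
  exact exists_extension hE hj' Subtype.val_injective (ψ : K.carrier →ₗ[R] E)

theorem exists_extension_of_pow_le [IsNoetherianRing R] (hE : GrLC.IsStarInj 𝒜 ℰ) (m : HomogeneousIdeal 𝒜)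
    [m.toIdeal.IsMaximal] (K : ℕ) (J : Ideal R) : ∀ (φ : J →ₗ[R] E), m.toIdeal ^ K ≤ J →
      ∃ Φ : R →ₗ[R] E, ∀ (x : R) (hx : x ∈ J), Φ x = φ ⟨x, hx⟩ := by
  induction J using WellFoundedGT.induction with
  | _ J ih =>
    intro φ hJ
    classical
    by_cases htop : J = ⊤
    · subst htop
      exact ⟨φ ∘ₗ LinearMap.codRestrict ⊤ LinearMap.id (fun _ => trivial), fun x _ => rfl⟩
    obtain ⟨j, hj, hmin⟩ : ∃ j, m.toIdeal ^ j ≤ J ∧ ∀ i < j, ¬ m.toIdeal ^ i ≤ J :=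
      have h : ∃ j, m.toIdeal ^ j ≤ J := ⟨K, hJ⟩
      ⟨Nat.find h, Nat.find_spec h, fun i hi => Nat.find_min h hi⟩
    obtain _ | j := j
    · exact absurd (by simpa using hj) htop
    obtain ⟨x, hx, hxJ⟩ := SetLike.not_le_iff_exists.mp (hmin j (by omega))
    have hmx : ∀ r ∈ m.toIdeal, r * x ∈ J := fun r hr => hj (by
      rw [pow_succ']; exact Ideal.mul_mem_mul hr hx)
    let ψ : m.toIdeal →ₗ[R] E :=
      φ ∘ₗ LinearMap.codRestrict J (LinearMap.mulRight R x ∘ₗ m.toIdeal.subtype) fun r => hmx r r.2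
    obtain ⟨Ψ, hΨ⟩ := exists_extension_ideal hE m ψ
    have hcoef : ∀ c : R, c * x ∈ J → c ∈ m.toIdeal := fun c hc => by
      by_contra hcm
      obtain ⟨a, i, hi, hai⟩ := ‹m.toIdeal.IsMaximal›.exists_inv hcm
      refine hxJ ?_
      rw [show x = a * (c * x) + i * x by rw [← mul_assoc, ← add_mul, hai, one_mul]]
      exact add_mem (J.mul_mem_left a hc) (hmx i hi)
    have hval : ∀ (c : R) (hc : c * x ∈ J), φ ⟨c * x, hc⟩ = c • Ψ 1 := fun c hc => by
      have := LinearMap.congr_fun hΨ ⟨c, hcoef c hc⟩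
      rw [← map_smul, smul_eq_mul, mul_one]
      exact this.symm
    have H : ∀ c : R, c • x = 0 → RingHom.id R c • Ψ 1 = 0 := fun c hc => by
      have hc' : c * x ∈ J := by rw [← smul_eq_mul, hc]; exact zero_mem _
      rw [RingHom.id_apply, ← hval c hc', ← map_zero φ]
      exact congrArg φ (Subtype.ext hc)
    let g : R →ₗ.[R] E := LinearPMap.mkSpanSingleton' x (Ψ 1) H
    let f : R →ₗ.[R] E := ⟨J, φ⟩
    have hfg : ∀ (a : f.domain) (b : g.domain), (a : R) = b → f a = g b := by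
      rintro ⟨a, ha⟩ ⟨b, hb⟩ (hab : a = b)
      subst hab
      obtain ⟨c, rfl⟩ := Submodule.mem_span_singleton.mp hb
      refine Eq.trans ?_ (LinearPMap.mkSpanSingleton'_apply x (Ψ 1) H c hb).symm
      exact hval c ha
    let h := f.sup g hfg
    have hlt : J < h.domain := lt_of_le_of_ne le_sup_left fun e => hxJ (e ▸ Submodule.mem_sup_right (Submodule.mem_span_singleton_self x))
    obtain ⟨Φ, hΦ⟩ := ih h.domain hlt h.toFun (hJ.trans le_sup_left)
    refine ⟨Φ, fun y hy => ?_⟩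
    rw [hΦ y (Submodule.mem_sup_left hy)]
    exact ((LinearPMap.left_le_sup f g hfg).2 (x := ⟨y, hy⟩) (y := ⟨y, Submodule.mem_sup_left hy⟩) rfl).symm

theorem baer_of_torsion [IsNoetherianRing R] (hE : GrLC.IsStarInj 𝒜 ℰ) (m : HomogeneousIdeal 𝒜)
    [m.toIdeal.IsMaximal] (htors : GrLC.gam m.toIdeal E = ⊤) : Module.Baer R E := fun I φ => by
  obtain ⟨s, hs⟩ := Module.Finite.fg_top (R := R) (M := I)
  have : ∀ y : I, ∃ n, ∀ r ∈ m.toIdeal ^ n, r • φ y = 0 := fun y => htors.ge trivial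
  choose n hn using this
  have hN : ∀ r ∈ m.toIdeal ^ (s.sup n), ∀ y : I, r • φ y = 0 := fun r hr y => by
    have hy : y ∈ Submodule.span R (s : Set I) := hs ▸ trivial
    induction hy using Submodule.span_induction with
    | mem z hz => exact hn z r (Ideal.pow_le_pow_right (Finset.le_sup hz) hr)
    | zero => rw [map_zero, smul_zero]
    | add a b _ _ ha hb => rw [map_add, smul_add, ha, hb, add_zero]
    | smul c a _ ha => rw [map_smul, smul_comm, ha, smul_zero]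
  obtain ⟨k, hk⟩ := m.toIdeal.exists_pow_inf_eq_pow_smul I
  let K := k + s.sup n
  have hv : ∀ (z : R) (hz : z ∈ I), z ∈ m.toIdeal ^ K → φ ⟨z, hz⟩ = 0 := fun z hz hzm => by
    have hmem : z ∈ (m.toIdeal ^ (s.sup n) • (I : Submodule R R)) := by
      have h1 : z ∈ m.toIdeal ^ K • (⊤ : Submodule R R) ⊓ I :=
        ⟨by rw [smul_eq_mul, Ideal.mul_top]; exact hzm, hz⟩
      rw [hk K (Nat.le_add_right _ _), show K - k = s.sup n by omega] at h1
      exact Submodule.smul_mono le_rfl inf_le_right h1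
    suffices ∃ hz : z ∈ I, φ ⟨z, hz⟩ = 0 from this.2
    refine Submodule.smul_induction_on hmem (fun r hr y hy => ⟨I.mul_mem_left r hy, ?_⟩) fun a b ⟨ha, ha'⟩ ⟨hb, hb'⟩ => ⟨add_mem ha hb, ?_⟩
    · exact (map_smul φ r ⟨y, hy⟩).trans (hN r hr _)
    · exact (map_add φ ⟨a, ha⟩ ⟨b, hb⟩).trans (by rw [ha', hb', add_zero])
  let f : R →ₗ.[R] E := ⟨I, φ⟩
  let g : R →ₗ.[R] E := ⟨(m.toIdeal ^ K : Ideal R), 0⟩
  have hfg : ∀ (a : f.domain) (b : g.domain), (a : R) = b → f a = g b := fun a b hab =>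
    hv a a.2 (hab ▸ b.2)
  obtain ⟨Φ, hΦ⟩ := exists_extension_of_pow_le hE m K (f.sup g hfg).domain (f.sup g hfg).toFun le_sup_right
  refine ⟨Φ, fun y hy => ?_⟩
  rw [hΦ y (Submodule.mem_sup_left hy)]
  exact ((LinearPMap.left_le_sup f g hfg).2 (x := ⟨y, hy⟩) (y := ⟨y, Submodule.mem_sup_left hy⟩) rfl).symm

end Groth.Agent.GrInj
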